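import Cfsg.Agent.Lib.Fus.Fi23Sylow.Data

/-! Checks of the elementary abelian subgroup and the representatives. -/

set_option autoImplicit false
set_option maxRecDepth 100000
set_option maxHeartbeats 4000000

open Cfsg.Agent.Spor.Cos Cfsg.Agent.Spor.Cos.Triple Cfsg.Agent.Fus.Transp Cfsg.Agent.Fus.ElemW

namespace Cfsg.Agent.Fus.Fi23Sylow

open Cfsg.Agent.Spor.Cos.Fi23 (actA)

theorem basis_sq : (eb.all fun a => sameW actA dps (a ++ a) []) = true := by decide +kernel

theorem basis_comm : (eb.all fun a => eb.all fun b => sameW actA dps (a ++ b) (b ++ a)) = true := by decide +kernel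

theorem eb_fixed : (ins.all fun p => actA.chkFix eb p) = true := by decide +kernel

theorem keep_ok : ((List.range reps.length).all fun i => chkKeep actA ins reps i) = true := by decide +kernel

theorem dist_ok : ((List.range reps.length).all fun i => chkDist actA ins reps i) = true := by decide +kernel

end Cfsg.Agent.Fus.Fi23Sylow
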