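import Cfsg.Agent.Lib.Fus.Fi23Sylow.Data

/-! Checks of the closure. -/

set_option autoImplicit false
set_option maxRecDepth 100000
set_option maxHeartbeats 4000000

open Cfsg.Agent.Spor.Cos Cfsg.Agent.Spor.Cos.Triple Cfsg.Agent.Fus.Transp Cfsg.Agent.Fus.ElemW

namespace Cfsg.Agent.Fus.Fi23Sylow

open Cfsg.Agent.Spor.Cos.Fi23 (actA)

theorem edge0_ok : ((List.range reps.length).all fun i => chkEdgeAt actA dps eb gw reps clo 0 i) = true := by decide +kernel

theorem edge1_ok : ((List.range reps.length).all fun i => chkEdgeAt actA dps eb gw reps clo 1 i) = true := by decide +kernel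

theorem edge2_ok : ((List.range reps.length).all fun i => chkEdgeAt actA dps eb gw reps clo 2 i) = true := by decide +kernel

theorem parent_ok : ((List.range reps.length).all fun j => Nat.beq j 0 || (fun p : ℕ × ℕ => Nat.blt p.1 gw.length &&
    Nat.blt p.2 j && Nat.beq (edgeAt clo p.1 p.2).2 j) (par.getD j (0, 0))) = true := by decide +kernel

theorem act_ok : ((List.range gw.length).all fun t => chkAct actA dps eb (gw.getD t []) (gM.getD t [])) = true := by
  decide +kernel

end Cfsg.Agent.Fus.Fi23Sylow
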