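import Cfsg.Agent.Lib.Fus.SylowNormalElemMain
import Cfsg.Agent.Lib.Spor.Cos.Fi23.ActAData

/-! Data of a Sylow 2-subgroup of Fi23. -/

set_option autoImplicit false
set_option maxRecDepth 100000
set_option maxHeartbeats 4000000

open Cfsg.Agent.Spor.Cos Cfsg.Agent.Spor.Cos.Triple Cfsg.Agent.Fus.Transp Cfsg.Agent.Fus.ElemW

namespace Cfsg.Agent.Fus.Fi23Sylow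

open Cfsg.Agent.Spor.Cos.Fi23 (actA)

/-- The points deciding the identity. -/
def dps : List ℕ := [0, 1, 2, 3, 4, 5, 6, 8, 9]

/-- A basis of the elementary abelian subgroup. -/
def eb : List (List ℕ) := [[4, 3, 8, 9, 2, 3, 8, 1, 2, 3, 4, 5, 6, 5, 4, 3, 8, 9, 2, 3, 8, 1, 2, 3, 4],
    [4, 3, 8, 9, 4, 5, 3, 4, 2, 3, 8, 1, 2, 3, 4, 5, 6, 5, 4, 3, 8, 2, 3, 4, 5, 9, 8, 1, 2, 3, 4, 8, 3],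
    [9, 3, 8, 5, 6, 4, 5, 3, 4, 2, 3, 8, 1, 2, 3, 4, 5, 6, 7, 6, 5, 4, 3, 8, 2, 3, 4, 5, 6, 1, 2, 3, 4, 5, 8, 3, 9],
    [4, 2, 3, 8, 9, 8, 5, 3, 4, 2, 3, 8, 1, 2, 3, 4, 5, 6, 7, 6, 5, 4, 3, 8, 2, 3, 4, 5, 9, 8, 1, 2, 3, 4, 8, 2, 9],
    [4, 2, 3, 8, 9, 8, 4, 5, 3, 4, 2, 3, 8, 1, 2, 3, 4, 5, 6, 5, 4, 3, 8, 2, 3, 4, 5, 9, 8, 1, 2, 3, 4, 8, 3, 2, 9],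
    [4, 2, 3, 8, 9, 8, 5, 3, 4, 1, 2, 3, 8, 0, 1, 2, 3, 4, 5, 6, 5, 4, 3, 8, 2, 3, 4, 5, 9, 8, 1, 2, 3, 4, 8, 0, 1, 2, 9],
    [4, 5, 2, 3, 4, 1, 2, 3, 8, 9, 8, 3, 4, 2, 3, 8, 1, 2, 3, 4, 5, 6, 5, 4, 3, 8, 9, 2, 3, 8, 1, 2, 3, 4, 5, 3, 8, 2, 3, 4, 1, 2, 9],
    [6, 4, 5, 3, 4, 2, 3, 8, 9, 6, 5, 3, 4, 2, 3, 8, 1, 2, 3, 4, 5, 6, 7, 6, 5, 4, 3, 8, 9, 2, 3, 8, 1, 2, 3, 4, 5, 6, 3, 4, 5, 8, 2, 3, 4],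
    [9, 4, 3, 8, 5, 2, 3, 4, 1, 2, 3, 8, 9, 5, 3, 4, 1, 2, 3, 8, 0, 1, 2, 3, 4, 5, 6, 5, 4, 3, 8, 9, 2, 3, 8, 1, 2, 3, 4, 5, 3, 4, 2, 3, 8, 0, 1, 2, 3, 4, 8, 2, 9],
    [3, 8, 6, 4, 5, 3, 4, 0, 1, 2, 3, 8, 9, 6, 5, 3, 4, 1, 2, 3, 8, 0, 1, 2, 3, 4, 5, 6, 7, 6, 5, 4, 3, 8, 9, 2, 3, 8, 1, 2, 3, 4, 5, 6, 3, 4, 5, 8, 0, 1, 2, 3, 4, 8, 3, 1, 0],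
    [8, 6, 4, 5, 3, 4, 1, 2, 3, 8, 9, 8, 5, 6, 4, 5, 2, 3, 4, 1, 2, 3, 8, 0, 1, 2, 3, 4, 5, 6, 7, 6, 5, 4, 3, 8, 9, 2, 3, 4, 1, 2, 3, 8, 0, 1, 2, 3, 4, 5, 6, 4, 5, 2, 3, 4, 2, 3, 9, 8, 1]]

/-- Generators modulo the elementary abelian subgroup. -/
def gw : List (List ℕ) := [[3, 8, 9, 2, 3, 8, 4, 5, 3, 4, 2, 3, 8, 9, 8, 5, 3, 4, 1, 2, 3, 8, 0, 1, 2, 3, 4, 5, 6, 7, 8, 5, 3, 4, 1, 2, 3, 8, 9, 8, 3, 4, 2, 3, 8, 1, 2, 3, 4, 5, 6, 8, 5, 3, 4, 2, 3, 8, 9, 8, 3, 4, 2, 3, 8, 1, 2, 3, 4, 5, 4, 2, 3, 8, 9, 3, 4, 1, 2, 3, 8, 0, 1, 2, 3, 4, 8, 9, 1, 2, 3, 8, 0, 1, 2, 3, 2, 0],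
    [4, 3, 8, 6, 4, 5, 2, 3, 4, 1, 2, 3, 8, 9, 4, 5, 2, 3, 4, 1, 2, 3, 8, 0, 1, 2, 3, 4, 5, 6, 7, 9, 8, 6, 5, 3, 4, 2, 3, 8, 9, 8, 6, 5, 3, 4, 2, 3, 8, 0, 1, 2, 3, 4, 5, 6, 8, 2, 3, 4, 1, 2, 3, 8, 0, 1, 2, 3, 4, 5, 3, 8, 9, 4, 1, 2, 3, 8, 0, 1, 2, 3, 4, 3, 8, 2, 3, 8, 0, 1],
    [5, 4, 3, 8, 5, 2, 3, 4, 1, 2, 3, 8, 9, 7, 6, 5, 3, 4, 2, 3, 8, 0, 1, 2, 3, 4, 5, 6, 7, 5, 4, 3, 8, 9, 5, 3, 4, 2, 3, 8, 4, 5, 6, 3, 4, 5, 2, 3, 4, 1, 2, 3, 8, 9, 5, 2, 3, 4, 1, 2, 3, 8, 0, 1, 2, 3, 4, 5, 6, 8, 9, 4, 2, 3, 8, 0, 1, 2, 3, 4, 5, 9, 2, 3, 4, 1, 2, 3, 8, 0, 1, 2, 3, 4, 8, 9, 2, 3, 8, 0, 1, 2, 3, 9, 8, 2, 1]]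

/-- Coset representatives. -/
def reps : List (List ℕ) := [[],
    [3, 8, 9, 2, 3, 8, 4, 5, 3, 4, 2, 3, 8, 9, 8, 5, 3, 4, 1, 2, 3, 8, 0, 1, 2, 3, 4, 5, 6, 7, 8, 5, 3, 4, 1, 2, 3, 8, 9, 8, 3, 4, 2, 3, 8, 1, 2, 3, 4, 5, 6, 8, 5, 3, 4, 2, 3, 8, 9, 8, 3, 4, 2, 3, 8, 1, 2, 3, 4, 5, 4, 2, 3, 8, 9, 3, 4, 1, 2, 3, 8, 0, 1, 2, 3, 4, 8, 9, 1, 2, 3, 8, 0, 1, 2, 3, 2, 0],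
    [4, 3, 8, 6, 4, 5, 2, 3, 4, 1, 2, 3, 8, 9, 4, 5, 2, 3, 4, 1, 2, 3, 8, 0, 1, 2, 3, 4, 5, 6, 7, 9, 8, 6, 5, 3, 4, 2, 3, 8, 9, 8, 6, 5, 3, 4, 2, 3, 8, 0, 1, 2, 3, 4, 5, 6, 8, 2, 3, 4, 1, 2, 3, 8, 0, 1, 2, 3, 4, 5, 3, 8, 9, 4, 1, 2, 3, 8, 0, 1, 2, 3, 4, 3, 8, 2, 3, 8, 0, 1],
    [5, 4, 3, 8, 5, 2, 3, 4, 1, 2, 3, 8, 9, 7, 6, 5, 3, 4, 2, 3, 8, 0, 1, 2, 3, 4, 5, 6, 7, 5, 4, 3, 8, 9, 5, 3, 4, 2, 3, 8, 4, 5, 6, 3, 4, 5, 2, 3, 4, 1, 2, 3, 8, 9, 5, 2, 3, 4, 1, 2, 3, 8, 0, 1, 2, 3, 4, 5, 6, 8, 9, 4, 2, 3, 8, 0, 1, 2, 3, 4, 5, 9, 2, 3, 4, 1, 2, 3, 8, 0, 1, 2, 3, 4, 8, 9, 2, 3, 8, 0, 1, 2, 3, 9, 8, 2, 1],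
    [9, 3, 4, 2, 3, 8, 5, 6, 4, 5, 3, 4, 1, 2, 3, 8, 9, 4, 5, 3, 4, 1, 2, 3, 8, 0, 1, 2, 3, 4, 5, 6, 7, 3, 4, 2, 3, 8, 9, 5, 4, 3, 8, 6, 5, 2, 3, 4, 1, 2, 3, 8, 9, 8, 5, 2, 3, 4, 1, 2, 3, 8, 0, 1, 2, 3, 4, 5, 6, 3, 8, 5, 1, 2, 3, 4, 0, 1, 2, 3, 8, 9, 3, 8, 5, 2, 3, 4, 1, 2, 3, 8, 0, 1, 2, 3, 4, 5, 4, 3, 8, 9, 4, 1, 2, 3, 8, 0, 1, 2, 3, 4, 8, 9, 2, 3, 8, 1, 2, 3, 8, 1, 2, 9, 1, 0],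
    [8, 9, 0, 1, 2, 3, 8, 6, 4, 5, 3, 4, 2, 3, 8, 9, 7, 6, 5, 4, 1, 2, 3, 8, 0, 1, 2, 3, 4, 5, 6, 7, 8, 3, 4, 1, 2, 3, 8, 5, 6, 4, 5, 3, 4, 2, 3, 8, 9, 8, 4, 5, 2, 3, 4, 1, 2, 3, 8, 0, 1, 2, 3, 4, 5, 6, 3, 4, 1, 2, 3, 8, 9, 4, 5, 3, 4, 2, 3, 8, 0, 1, 2, 3, 4, 5, 3, 8, 9, 4, 3, 8, 2, 3, 4, 1, 2, 3, 8, 0, 1, 2, 3, 4, 3, 8, 9, 2, 3, 8, 1, 2, 3, 8, 2],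
    [9, 4, 3, 8, 7, 6, 3, 4, 5, 2, 3, 4, 1, 2, 3, 8, 9, 5, 2, 3, 4, 1, 2, 3, 8, 0, 1, 2, 3, 4, 5, 6, 7, 4, 2, 3, 8, 5, 6, 4, 5, 3, 4, 2, 3, 8, 9, 5, 6, 4, 5, 3, 4, 1, 2, 3, 8, 0, 1, 2, 3, 4, 5, 6, 8, 3, 4, 2, 3, 8, 9, 5, 3, 4, 2, 3, 8, 0, 1, 2, 3, 4, 5, 3, 8, 2, 3, 4, 1, 2, 3, 8, 0, 1, 2, 3, 4, 8, 0, 1, 2, 3, 1],
    [5, 6, 4, 5, 3, 4, 1, 2, 3, 8, 9, 5, 2, 3, 4, 1, 2, 3, 8, 0, 1, 2, 3, 4, 5, 6, 7, 9, 8, 3, 4, 0, 1, 2, 3, 8, 9, 5, 4, 3, 8, 5, 6, 4, 5, 2, 3, 4, 1, 2, 3, 8, 9, 5, 2, 3, 4, 1, 2, 3, 8, 0, 1, 2, 3, 4, 5, 6, 8, 9, 5, 4, 2, 3, 8, 4, 5, 2, 3, 4, 1, 2, 3, 8, 9, 5, 2, 3, 4, 1, 2, 3, 8, 0, 1, 2, 3, 4, 5, 9, 8, 1, 2, 3, 4, 2, 3, 8, 1, 2, 3, 1,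 2, 0],
    [9, 4, 3, 8, 5, 2, 3, 4, 1, 2, 3, 8, 9, 6, 5, 4, 1, 2, 3, 8, 0, 1, 2, 3, 4, 5, 6, 7, 8, 9, 1, 2, 3, 8, 6, 3, 4, 5, 2, 3, 4, 1, 2, 3, 8, 9, 6, 5, 2, 3, 4, 1, 2, 3, 8, 0, 1, 2, 3, 4, 5, 6, 9, 1, 2, 3, 8, 4, 5, 3, 4, 1, 2, 3, 8, 9, 8, 4, 5, 2, 3, 4, 1, 2, 3, 8, 0, 1, 2, 3, 4, 5, 4, 1, 2, 3, 8, 9, 3, 8, 2, 3, 4, 1, 2, 3, 8, 0, 1, 2, 3, 4, 8, 9, 3, 8, 2, 3, 9, 8, 9, 1, 0],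
    [7, 6, 5, 4, 3, 8, 7, 5, 6, 3, 4, 5, 2, 3, 4, 1, 2, 3, 8, 9, 5, 2, 3, 4, 1, 2, 3, 8, 0, 1, 2, 3, 4, 5, 6, 7, 2, 3, 8, 9, 4, 3, 8, 5, 6, 3, 4, 5, 2, 3, 4, 1, 2, 3, 8, 9, 6, 5, 3, 4, 1, 2, 3, 8, 0, 1, 2, 3, 4, 5, 6, 3, 8, 4, 5, 2, 3, 4, 0, 1, 2, 3, 8, 9, 8, 5, 2, 3, 4, 1, 2, 3, 8, 0, 1, 2, 3, 4, 5, 9, 4, 1, 2, 3, 8, 0, 1, 2, 3, 4, 9, 8, 1, 2, 3, 8, 0, 1, 2, 9],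
    [5, 4, 3, 8, 9, 3, 4, 2, 3, 8, 5, 6, 3, 4, 5, 2, 3, 4, 1, 2, 3, 8, 9, 8, 6, 5, 2, 3, 4, 1, 2, 3, 8, 0, 1, 2, 3, 4, 5, 6, 7, 9, 4, 3, 8, 5, 6, 4, 5, 3, 4, 2, 3, 8, 9, 8, 6, 5, 3, 4, 1, 2, 3, 8, 0, 1, 2, 3, 4, 5, 6, 9, 8, 3, 4, 0, 1, 2, 3, 8, 9, 4, 1, 2, 3, 8, 0, 1, 2, 3, 4, 5, 3, 4, 2, 3, 8, 9, 3, 8, 2, 3, 4, 1, 2, 3, 8, 0, 1, 2, 3, 4, 8, 9, 2, 3, 8, 0, 1, 2, 3, 9, 0, 1, 0],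
    [2, 3, 8, 9, 7, 6, 5, 4, 3, 8, 4, 5, 2, 3, 4, 1, 2, 3, 8, 9, 5, 2, 3, 4, 1, 2, 3, 8, 0, 1, 2, 3, 4, 5, 6, 7, 2, 3, 8, 4, 5, 3, 4, 1, 2, 3, 8, 9, 4, 5, 2, 3, 4, 1, 2, 3, 8, 0, 1, 2, 3, 4, 5, 6, 4, 3, 8, 5, 2, 3, 4, 0, 1, 2, 3, 8, 9, 4, 5, 3, 4, 1, 2, 3, 8, 0, 1, 2, 3, 4, 5, 9, 1, 2, 3, 8, 0, 1, 2, 3, 4, 9, 8, 3, 9, 8, 9, 1],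
    [9, 8, 6, 7, 5, 6, 4, 5, 2, 3, 4, 0, 1, 2, 3, 8, 9, 4, 5, 2, 3, 4, 1, 2, 3, 8, 0, 1, 2, 3, 4, 5, 6, 7, 5, 4, 2, 3, 8, 9, 8, 5, 6, 4, 5, 3, 4, 1, 2, 3, 8, 0, 1, 2, 3, 4, 5, 6, 4, 5, 1, 2, 3, 4, 0, 1, 2, 3, 8, 9, 3, 4, 2, 3, 8, 0, 1, 2, 3, 4, 5, 9, 2, 3, 8, 1, 2, 3, 4, 9, 8, 2, 0],
    [9, 5, 4, 3, 8, 7, 6, 5, 2, 3, 4, 0, 1, 2, 3, 8, 9, 6, 5, 2, 3, 4, 1, 2, 3, 8, 0, 1, 2, 3, 4, 5, 6, 7, 2, 3, 8, 9, 3, 4, 2, 3, 8, 4, 5, 6, 3, 4, 5, 2, 3, 4, 1, 2, 3, 8, 9, 5, 3, 4, 1, 2, 3, 8, 0, 1, 2, 3, 4, 5, 6, 8, 9, 4, 3, 8, 4, 5, 2, 3, 4, 0, 1, 2, 3, 8, 9, 5, 2, 3, 4, 1, 2, 3, 8, 0, 1, 2, 3, 4, 5, 9, 8, 3, 4, 8, 9, 3, 8, 0, 1, 2, 3, 9, 8, 1, 2, 1, 0],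
    [9, 3, 8, 7, 5, 6, 4, 5, 3, 4, 1, 2, 3, 8, 0, 1, 2, 3, 4, 5, 6, 7, 8, 9, 4, 1, 2, 3, 8, 3, 4, 5, 2, 3, 4, 1, 2, 3, 8, 9, 6, 5, 3, 4, 1, 2, 3, 8, 0, 1, 2, 3, 4, 5, 6, 8, 9, 0, 1, 2, 3, 8, 4, 5, 2, 3, 4, 0, 1, 2, 3, 8, 9, 5, 3, 4, 1, 2, 3, 8, 0, 1, 2, 3, 4, 5, 3, 8, 9, 8, 3, 4, 1, 2, 3, 8, 0, 1, 2, 3, 4, 9, 2, 3, 8, 0, 1, 2, 3, 9, 8, 9],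
    [9, 6, 5, 4, 2, 3, 8, 3, 4, 5, 2, 3, 4, 1, 2, 3, 8, 9, 5, 2, 3, 4, 1, 2, 3, 8, 0, 1, 2, 3, 4, 5, 6, 7, 4, 3, 8, 9, 3, 4, 2, 3, 8, 4, 5, 6, 3, 4, 5, 2, 3, 4, 0, 1, 2, 3, 8, 9, 6, 5, 3, 4, 1, 2, 3, 8, 0, 1, 2, 3, 4, 5, 6, 4, 5, 3, 4, 1, 2, 3, 8, 0, 1, 2, 3, 4, 5, 4, 2, 3, 8, 9, 1, 2, 3, 8, 0, 1, 2, 3, 4, 9, 2, 3, 8, 1, 2, 3, 1, 2, 9, 0, 1],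
    [4, 1, 2, 3, 8, 7, 4, 5, 6, 3, 4, 5, 2, 3, 4, 1, 2, 3, 8, 9, 4, 5, 2, 3, 4, 1, 2, 3, 8, 0, 1, 2, 3, 4, 5, 6, 7, 9, 4, 3, 8, 4, 5, 6, 3, 4, 5, 2, 3, 4, 0, 1, 2, 3, 8, 9, 4, 5, 2, 3, 4, 1, 2, 3, 8, 0, 1, 2, 3, 4, 5, 6, 8, 9, 5, 4, 3, 8, 5, 2, 3, 4, 1, 2, 3, 8, 9, 3, 8, 5, 2, 3, 4, 1, 2, 3, 8, 0, 1, 2, 3, 4, 5, 8, 9, 3, 4, 1, 2, 3, 8, 0, 1, 2, 3, 4, 3, 9, 8, 2, 9, 0],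
    [9, 8, 1, 2, 3, 4, 0, 1, 2, 3, 8, 9, 8, 7, 6, 5, 2, 3, 4, 1, 2, 3, 8, 0, 1, 2, 3, 4, 5, 6, 7, 5, 2, 3, 4, 0, 1, 2, 3, 8, 9, 8, 5, 3, 4, 1, 2, 3, 8, 0, 1, 2, 3, 4, 5, 6, 8, 5, 3, 4, 1, 2, 3, 8, 9, 3, 4, 1, 2, 3, 8, 0, 1, 2, 3, 4, 5, 3, 8, 9, 8, 3, 4, 2, 3, 8, 0, 1, 2, 3, 4, 9, 3, 8, 0, 1, 2, 3, 9, 8, 0, 1, 2, 9, 0],
    [4, 2, 3, 8, 5, 6, 3, 4, 5, 2, 3, 4, 1, 2, 3, 8, 9, 8, 6, 5, 2, 3, 4, 1, 2, 3, 8, 0, 1, 2, 3, 4, 5, 6, 7, 5, 4, 0, 1, 2, 3, 8, 9, 6, 3, 4, 5, 2, 3, 4, 1, 2, 3, 8, 0, 1, 2, 3, 4, 5, 6, 8, 9, 1, 2, 3, 8, 4, 5, 2, 3, 4, 0, 1, 2, 3, 8, 9, 5, 4, 1, 2, 3, 8, 0, 1, 2, 3, 4, 5, 4, 0, 1, 2, 3, 8, 9, 8, 3, 4, 2, 3, 8, 1, 2, 3, 4, 9, 3, 8,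 2, 3, 9, 8, 9],
    [8, 3, 4, 2, 3, 8, 9, 6, 5, 4, 3, 8, 7, 6, 5, 2, 3, 4, 1, 2, 3, 8, 9, 5, 2, 3, 4, 1, 2, 3, 8, 0, 1, 2, 3, 4, 5, 6, 7, 8, 9, 3, 8, 5, 2, 3, 4, 0, 1, 2, 3, 8, 9, 3, 8, 6, 5, 2, 3, 4, 1, 2, 3, 8, 0, 1, 2, 3, 4, 5, 6, 5, 3, 4, 1, 2, 3, 8, 9, 8, 5, 3, 4, 2, 3, 8, 1, 2, 3, 4, 5, 4, 2, 3, 8, 0, 1, 2, 3, 4, 8, 0, 1, 2, 3, 9, 8, 1, 2, 9, 1],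
    [8, 9, 4, 3, 8, 6, 3, 4, 5, 2, 3, 4, 1, 2, 3, 8, 9, 5, 2, 3, 4, 1, 2, 3, 8, 0, 1, 2, 3, 4, 5, 6, 7, 5, 4, 3, 8, 9, 2, 3, 8, 5, 6, 4, 5, 3, 4, 1, 2, 3, 8, 9, 6, 5, 2, 3, 4, 1, 2, 3, 8, 0, 1, 2, 3, 4, 5, 6, 9, 3, 8, 4, 5, 3, 4, 2, 3, 8, 9, 5, 3, 4, 1, 2, 3, 8, 0, 1, 2, 3, 4, 5, 0, 1, 2, 3, 8, 9, 4, 2, 3, 8, 1, 2, 3, 4, 3, 9, 8, 0, 1, 2, 9, 1, 0],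
    [4, 3, 8, 4, 5, 6, 3, 4, 5, 2, 3, 4, 0, 1, 2, 3, 8, 9, 6, 5, 2, 3, 4, 1, 2, 3, 8, 0, 1, 2, 3, 4, 5, 6, 7, 9, 2, 3, 8, 5, 6, 4, 5, 3, 4, 1, 2, 3, 8, 9, 8, 5, 3, 4, 1, 2, 3, 8, 0, 1, 2, 3, 4, 5, 6, 2, 3, 4, 1, 2, 3, 8, 9, 8, 3, 4, 2, 3, 8, 0, 1, 2, 3, 4, 5, 1, 2, 3, 4, 0, 1, 2, 3, 8, 9, 3, 4, 2, 3, 8, 1, 2, 3, 4, 8, 3, 8, 2],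
    [0, 1, 2, 3, 8, 9, 4, 2, 3, 8, 4, 5, 6, 3, 4, 5, 2, 3, 4, 1, 2, 3, 8, 9, 8, 5, 2, 3, 4, 1, 2, 3, 8, 0, 1, 2, 3, 4, 5, 6, 7, 3, 4, 2, 3, 8, 5, 6, 4, 5, 3, 4, 1, 2, 3, 8, 9, 6, 4, 5, 3, 4, 1, 2, 3, 8, 0, 1, 2, 3, 4, 5, 6, 9, 2, 3, 8, 4, 5, 3, 4, 1, 2, 3, 8, 9, 8, 4, 5, 2, 3, 4, 1, 2, 3, 8, 0, 1, 2, 3, 4, 5, 0, 1, 2, 3, 8, 9, 3, 4, 2, 3, 8, 0, 1, 2, 3, 4, 8, 9, 1, 2, 3, 8, 0, 1, 2, 3, 8, 2],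
    [4, 3, 8, 6, 4, 5, 2, 3, 4, 1, 2, 3, 8, 9, 8, 7, 6, 4, 5, 2, 3, 4, 1, 2, 3, 8, 0, 1, 2, 3, 4, 5, 6, 7, 5, 3, 4, 1, 2, 3, 8, 9, 8, 3, 4, 2, 3, 8, 5, 6, 3, 4, 5, 2, 3, 4, 1, 2, 3, 8, 9, 6, 5, 3, 4, 1, 2, 3, 8, 0, 1, 2, 3, 4, 5, 6, 1, 2, 3, 8, 9, 5, 3, 4, 1, 2, 3, 8, 0, 1, 2, 3, 4, 5, 9, 2, 3, 8, 0, 1, 2, 3, 4, 2, 3, 8, 9, 1, 2, 3, 8, 0, 1, 2, 3, 8, 9],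
    [6, 5, 4, 0, 1, 2, 3, 8, 9, 5, 6, 4, 5, 3, 4, 1, 2, 3, 8, 0, 1, 2, 3, 4, 5, 6, 7, 3, 8, 9, 5, 4, 3, 8, 6, 5, 1, 2, 3, 4, 0, 1, 2, 3, 8, 9, 4, 5, 2, 3, 4, 1, 2, 3, 8, 0, 1, 2, 3, 4, 5, 6, 9, 4, 2, 3, 8, 4, 5, 2, 3, 4, 1, 2, 3, 8, 9, 5, 3, 4, 1, 2, 3, 8, 0, 1, 2, 3, 4, 5, 0, 1, 2, 3, 8, 9, 2, 3, 4, 1, 2, 3, 8, 0, 1, 2, 3, 4, 1, 2, 3, 9, 8, 2],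
    [2, 3, 8, 9, 5, 4, 3, 8, 6, 4, 5, 2, 3, 4, 0, 1, 2, 3, 8, 9, 6, 5, 2, 3, 4, 1, 2, 3, 8, 0, 1, 2, 3, 4, 5, 6, 7, 9, 8, 3, 4, 0, 1, 2, 3, 8, 9, 5, 4, 2, 3, 8, 5, 6, 4, 5, 2, 3, 4, 1, 2, 3, 8, 9, 5, 2, 3, 4, 1, 2, 3, 8, 0, 1, 2, 3, 4, 5, 6, 4, 0, 1, 2, 3, 8, 9, 3, 4, 1, 2, 3, 8, 0, 1, 2, 3, 4, 5, 3, 4, 1, 2, 3, 8, 9, 8, 3, 4, 2, 3, 8, 0, 1, 2, 3, 4, 8, 9, 3, 8, 2, 3, 8, 0, 1, 2, 9],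
    [9, 4, 3, 8, 2, 3, 4, 1, 2, 3, 8, 9, 6, 4, 5, 3, 4, 1, 2, 3, 8, 0, 1, 2, 3, 4, 5, 6, 7, 2, 3, 8, 9, 4, 3, 8, 5, 6, 4, 5, 2, 3, 4, 1, 2, 3, 8, 9, 8, 6, 4, 5, 2, 3, 4, 1, 2, 3, 8, 0, 1, 2, 3, 4, 5, 6, 4, 3, 8, 9, 5, 4, 2, 3, 8, 1, 2, 3, 4, 5, 1, 2, 3, 8, 9, 8, 3, 4, 2, 3, 8, 0, 1, 2, 3, 4, 2, 3, 1, 2, 9],
    [4, 3, 8, 9, 1, 2, 3, 8, 5, 6, 4, 5, 2, 3, 4, 1, 2, 3, 8, 9, 8, 6, 5, 2, 3, 4, 1, 2, 3, 8, 0, 1, 2, 3, 4, 5, 6, 7, 2, 3, 8, 9, 6, 5, 4, 3, 8, 5, 6, 3, 4, 5, 2, 3, 4, 1, 2, 3, 8, 9, 5, 2, 3, 4, 1, 2, 3, 8, 0, 1, 2, 3, 4, 5, 6, 9, 1, 2, 3, 8, 4, 5, 3, 4, 0, 1, 2, 3, 8, 9, 4, 1, 2, 3, 8, 0, 1, 2, 3, 4, 5, 3, 4, 1, 2, 3, 8, 9, 3, 4, 2, 3, 8, 1,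 2, 3, 4, 9, 8, 2, 9, 1],
    [9, 8, 3, 4, 5, 2, 3, 4, 1, 2, 3, 8, 9, 8, 7, 6, 5, 3, 4, 2, 3, 8, 0, 1, 2, 3, 4, 5, 6, 7, 2, 3, 4, 5, 1, 2, 3, 4, 0, 1, 2, 3, 8, 9, 8, 6, 5, 3, 4, 1, 2, 3, 8, 0, 1, 2, 3, 4, 5, 6, 3, 4, 0, 1, 2, 3, 8, 9, 4, 5, 3, 4, 1, 2, 3, 8, 0, 1, 2, 3, 4, 5, 4, 2, 3, 8, 9, 4, 3, 8, 2, 3, 4, 1, 2, 3, 8, 0, 1, 2, 3, 4, 8, 0, 1, 2, 3, 9, 8, 0, 1, 0],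
    [7, 6, 4, 5, 3, 4, 1, 2, 3, 8, 9, 4, 5, 2, 3, 4, 1, 2, 3, 8, 0, 1, 2, 3, 4, 5, 6, 7, 0, 1, 2, 3, 8, 6, 4, 5, 3, 4, 2, 3, 8, 9, 8, 6, 4, 5, 3, 4, 1, 2, 3, 8, 0, 1, 2, 3, 4, 5, 6, 4, 5, 3, 4, 0, 1, 2, 3, 8, 9, 5, 3, 4, 2, 3, 8, 0, 1, 2, 3, 4, 5, 8, 3, 4, 0, 1, 2, 3, 8, 9, 8, 3, 4, 2, 3, 8, 0, 1, 2, 3, 4, 1, 2, 3, 8, 0, 1, 2, 3, 8, 1, 2, 9, 0],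
    [8, 7, 6, 5, 2, 3, 4, 0, 1, 2, 3, 8, 9, 7, 6, 5, 3, 4, 1, 2, 3, 8, 0, 1, 2, 3, 4, 5, 6, 7, 3, 4, 1, 2, 3, 8, 9, 5, 4, 3, 8, 4, 5, 6, 3, 4, 5, 2, 3, 4, 0, 1, 2, 3, 8, 9, 6, 5, 2, 3, 4, 1, 2, 3, 8, 0, 1, 2, 3, 4, 5, 6, 3, 8, 4, 5, 2, 3, 4, 1, 2, 3, 8, 9, 8, 3, 4, 2, 3, 8, 0, 1, 2, 3, 4, 5, 4, 3, 8, 9, 4, 2, 3, 8, 1, 2, 3, 4, 9, 8, 2, 3, 0, 1, 2, 9, 1],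
    [5, 3, 4, 1, 2, 3, 8, 9, 6, 5, 4, 3, 8, 7, 4, 5, 6, 3, 4, 5, 2, 3, 4, 1, 2, 3, 8, 9, 4, 5, 2, 3, 4, 1, 2, 3, 8, 0, 1, 2, 3, 4, 5, 6, 7, 3, 8, 4, 5, 6, 3, 4, 5, 2, 3, 4, 1, 2, 3, 8, 9, 8, 6, 5, 3, 4, 2, 3, 8, 0, 1, 2, 3, 4, 5, 6, 1, 2, 3, 8, 4, 5, 2, 3, 4, 1, 2, 3, 8, 9, 5, 3, 4, 1, 2, 3, 8, 0, 1, 2, 3, 4, 5, 8, 2, 3, 4, 1, 2, 3, 8, 9, 3, 4, 1, 2, 3, 8, 0, 1, 2, 3, 4, 9, 8, 3, 9, 8, 2, 0, 1, 0],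
    [9, 3, 4, 2, 3, 8, 5, 6, 4, 5, 3, 4, 1, 2, 3, 8, 9, 4, 5, 3, 4, 1, 2, 3, 8, 0, 1, 2, 3, 4, 5, 6, 7, 5, 1, 2, 3, 4, 0, 1, 2, 3, 8, 9, 6, 5, 3, 4, 1, 2, 3, 8, 0, 1, 2, 3, 4, 5, 6, 9, 8, 5, 2, 3, 4, 0, 1, 2, 3, 8, 9, 3, 8, 5, 2, 3, 4, 1, 2, 3, 8, 0, 1, 2, 3, 4, 5, 4, 1, 2, 3, 8, 9, 8, 2, 3, 4, 1, 2, 3, 8, 0, 1, 2, 3, 4, 9, 2, 3, 8, 0, 1, 2, 3, 8, 1, 2, 9, 0],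
    [8, 9, 5, 4, 3, 8, 6, 4, 5, 2, 3, 4, 1, 2, 3, 8, 9, 6, 4, 5, 2, 3, 4, 1, 2, 3, 8, 0, 1, 2, 3, 4, 5, 6, 7, 8, 9, 6, 5, 4, 1, 2, 3, 8, 4, 5, 6, 3, 4, 5, 2, 3, 4, 1, 2, 3, 8, 9, 5, 2, 3, 4, 1, 2, 3, 8, 0, 1, 2, 3, 4, 5, 6, 8, 2, 3, 4, 1, 2, 3, 8, 9, 4, 5, 3, 4, 1, 2, 3, 8, 0, 1, 2, 3, 4, 5, 4, 1, 2, 3, 8, 9, 2, 3, 4, 1, 2, 3, 8, 0, 1, 2, 3, 4, 2, 3, 8, 2, 9],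
    [9, 4, 2, 3, 8, 6, 7, 5, 6, 3, 4, 5, 2, 3, 4, 1, 2, 3, 8, 9, 4, 5, 3, 4, 1, 2, 3, 8, 0, 1, 2, 3, 4, 5, 6, 7, 4, 2, 3, 8, 9, 8, 3, 4, 2, 3, 8, 5, 6, 4, 5, 2, 3, 4, 1, 2, 3, 8, 9, 5, 2, 3, 4, 1, 2, 3, 8, 0, 1, 2, 3, 4, 5, 6, 4, 2, 3, 8, 9, 3, 4, 2, 3, 8, 0, 1, 2, 3, 4, 5, 2, 3, 8, 9, 4, 3, 8, 0, 1, 2, 3, 4, 8, 3, 9, 0],
    [9, 8, 6, 3, 4, 5, 2, 3, 4, 1, 2, 3, 8, 9, 8, 7, 6, 5, 2, 3, 4, 1, 2, 3, 8, 0, 1, 2, 3, 4, 5, 6, 7, 3, 8, 9, 6, 5, 4, 2, 3, 8, 4, 5, 2, 3, 4, 1, 2, 3, 8, 9, 6, 5, 2, 3, 4, 1, 2, 3, 8, 0, 1, 2, 3, 4, 5, 6, 1, 2, 3, 8, 4, 5, 3, 4, 0, 1, 2, 3, 8, 9, 5, 2, 3, 4, 1, 2, 3, 8, 0, 1, 2, 3, 4, 5, 8, 2, 3, 4, 1, 2, 3, 8, 9, 2, 3, 4, 1,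 2, 3, 8, 0, 1, 2, 3, 4, 8, 9, 3, 8, 1, 2, 3, 2, 9],
    [7, 6, 5, 4, 1, 2, 3, 8, 9, 6, 4, 5, 3, 4, 2, 3, 8, 0, 1, 2, 3, 4, 5, 6, 7, 5, 2, 3, 4, 0, 1, 2, 3, 8, 9, 6, 5, 3, 4, 2, 3, 8, 5, 6, 4, 5, 2, 3, 4, 1, 2, 3, 8, 9, 5, 2, 3, 4, 1, 2, 3, 8, 0, 1, 2, 3, 4, 5, 6, 8, 4, 5, 3, 4, 1, 2, 3, 8, 9, 3, 8, 5, 2, 3, 4, 1, 2, 3, 8, 0, 1, 2, 3, 4, 5, 1, 2, 3, 8, 9, 4, 2, 3, 8, 1, 2, 3, 4, 9, 8, 3, 9, 8, 0, 1, 2, 9],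
    [8, 9, 8, 3, 4, 2, 3, 8, 7, 5, 6, 4, 5, 2, 3, 4, 1, 2, 3, 8, 9, 4, 5, 3, 4, 1, 2, 3, 8, 0, 1, 2, 3, 4, 5, 6, 7, 6, 5, 4, 0, 1, 2, 3, 8, 9, 4, 2, 3, 8, 4, 5, 6, 3, 4, 5, 2, 3, 4, 1, 2, 3, 8, 9, 8, 4, 5, 3, 4, 1, 2, 3, 8, 0, 1, 2, 3, 4, 5, 6, 4, 3, 8, 3, 4, 5, 2, 3, 4, 1, 2, 3, 8, 9, 8, 5, 2, 3, 4, 1, 2, 3, 8, 0, 1, 2, 3, 4, 5, 4, 2, 3, 8, 1, 2, 3, 4, 9, 3, 8, 2, 3, 1, 2, 1],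
    [6, 5, 3, 4, 1, 2, 3, 8, 9, 7, 6, 5, 4, 2, 3, 8, 0, 1, 2, 3, 4, 5, 6, 7, 3, 8, 9, 6, 5, 4, 3, 8, 4, 5, 2, 3, 4, 1, 2, 3, 8, 9, 4, 5, 2, 3, 4, 1, 2, 3, 8, 0, 1, 2, 3, 4, 5, 6, 3, 4, 0, 1, 2, 3, 8, 9, 8, 3, 4, 1, 2, 3, 8, 0, 1, 2, 3, 4, 5, 8, 9, 3, 8, 0, 1, 2, 3, 4, 3, 8, 9, 2, 3, 8, 1, 2, 3, 8, 2, 0],
    [2, 3, 8, 6, 4, 5, 3, 4, 1, 2, 3, 8, 9, 7, 6, 5, 2, 3, 4, 1, 2, 3, 8, 0, 1, 2, 3, 4, 5, 6, 7, 9, 8, 4, 5, 3, 4, 1, 2, 3, 8, 9, 6, 4, 5, 3, 4, 2, 3, 8, 0, 1, 2, 3, 4, 5, 6, 9, 3, 8, 3, 4, 5, 2, 3, 4, 1, 2, 3, 8, 9, 3, 4, 1, 2, 3, 8, 0, 1, 2, 3, 4, 5, 1, 2, 3, 8, 9, 8, 3, 4, 1, 2, 3, 8, 0, 1, 2, 3, 4, 8, 2, 3, 2, 0],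
    [4, 2, 3, 8, 9, 4, 2, 3, 8, 4, 5, 6, 3, 4, 5, 2, 3, 4, 1, 2, 3, 8, 9, 5, 2, 3, 4, 1, 2, 3, 8, 0, 1, 2, 3, 4, 5, 6, 7, 4, 1, 2, 3, 8, 9, 3, 4, 2, 3, 8, 5, 6, 4, 5, 3, 4, 0, 1, 2, 3, 8, 9, 4, 5, 2, 3, 4, 1, 2, 3, 8, 0, 1, 2, 3, 4, 5, 6, 8, 5, 3, 4, 2, 3, 8, 9, 8, 3, 4, 1, 2, 3, 8, 0, 1, 2, 3, 4, 5, 4, 1, 2, 3, 8, 9, 3, 4, 1, 2, 3, 8, 0, 1, 2, 3, 4, 8, 9, 2, 3, 8, 0, 1, 2, 3, 0, 1, 2, 1, 0],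
    [9, 1, 2, 3, 8, 6, 4, 5, 3, 4, 1, 2, 3, 8, 9, 6, 5, 4, 1, 2, 3, 8, 0, 1, 2, 3, 4, 5, 6, 7, 9, 8, 5, 6, 4, 5, 3, 4, 2, 3, 8, 9, 4, 5, 2, 3, 4, 1, 2, 3, 8, 0, 1, 2, 3, 4, 5, 6, 8, 9, 3, 8, 3, 4, 5, 2, 3, 4, 1, 2, 3, 8, 9, 4, 5, 3, 4, 1, 2, 3, 8, 0, 1, 2, 3, 4, 5, 3, 4, 2, 3, 8, 9, 8, 3, 4, 2, 3, 8, 0, 1, 2, 3, 4, 9, 8, 3, 8, 0, 1],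
    [4, 1, 2, 3, 8, 9, 6, 7, 5, 6, 4, 5, 2, 3, 4, 1, 2, 3, 8, 0, 1, 2, 3, 4, 5, 6, 7, 2, 3, 8, 9, 4, 2, 3, 8, 5, 6, 4, 5, 2, 3, 4, 1, 2, 3, 8, 9, 8, 6, 4, 5, 2, 3, 4, 1, 2, 3, 8, 0, 1, 2, 3, 4, 5, 6, 9, 8, 3, 4, 5, 2, 3, 4, 1, 2, 3, 8, 9, 4, 5, 3, 4, 2, 3, 8, 0, 1, 2, 3, 4, 5, 0, 1, 2, 3, 8, 9, 4, 3, 8, 2, 3, 4, 1, 2, 3, 8, 0, 1, 2, 3, 2, 9, 0, 1, 0],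
    [8, 5, 6, 4, 5, 3, 4, 1, 2, 3, 8, 9, 4, 1, 2, 3, 8, 0, 1, 2, 3, 4, 5, 6, 7, 5, 4, 3, 8, 6, 4, 5, 2, 3, 4, 1, 2, 3, 8, 9, 5, 4, 1, 2, 3, 8, 0, 1, 2, 3, 4, 5, 6, 4, 2, 3, 8, 9, 4, 5, 3, 4, 2, 3, 8, 0, 1, 2, 3, 4, 5, 1, 2, 3, 8, 9, 4, 2, 3, 8, 1, 2, 3, 4, 3, 9, 8, 0, 1, 2, 9, 0, 1],
    [5, 4, 3, 8, 6, 5, 2, 3, 4, 1, 2, 3, 8, 9, 8, 6, 5, 3, 4, 1, 2, 3, 8, 0, 1, 2, 3, 4, 5, 6, 7, 0, 1, 2, 3, 8, 4, 5, 3, 4, 2, 3, 8, 9, 3, 4, 1, 2, 3, 8, 0, 1, 2, 3, 4, 5, 6, 1, 2, 3, 8, 4, 5, 2, 3, 4, 1, 2, 3, 8, 9, 4, 5, 3, 4, 1, 2, 3, 8, 0, 1, 2, 3, 4, 5, 2, 3, 8, 9, 8, 3, 4, 2, 3, 8, 0, 1, 2, 3, 4, 3, 1, 2, 0, 1],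
    [9, 2, 3, 8, 5, 6, 4, 5, 2, 3, 4, 1, 2, 3, 8, 9, 8, 6, 5, 3, 4, 1, 2, 3, 8, 0, 1, 2, 3, 4, 5, 6, 7, 8, 9, 4, 2, 3, 8, 5, 6, 3, 4, 5, 2, 3, 4, 0, 1, 2, 3, 8, 9, 6, 5, 3, 4, 1, 2, 3, 8, 0, 1, 2, 3, 4, 5, 6, 8, 4, 5, 2, 3, 4, 1, 2, 3, 8, 0, 1, 2, 3, 4, 5, 2, 3, 8, 9, 8, 3, 4, 2, 3, 8, 0, 1, 2, 3, 4, 8, 1, 2, 3, 9, 8, 9, 1, 0],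
    [3, 8, 9, 2, 3, 8, 6, 4, 5, 3, 4, 1, 2, 3, 8, 9, 5, 2, 3, 4, 1, 2, 3, 8, 0, 1, 2, 3, 4, 5, 6, 7, 2, 3, 8, 9, 4, 3, 8, 5, 6, 4, 5, 3, 4, 1, 2, 3, 8, 9, 6, 5, 4, 1, 2, 3, 8, 0, 1, 2, 3, 4, 5, 6, 9, 8, 3, 4, 5, 1, 2, 3, 4, 0, 1, 2, 3, 8, 9, 4, 5, 3, 4, 1, 2, 3, 8, 0, 1, 2, 3, 4, 5, 3, 4, 1, 2, 3, 8, 9, 8, 3, 4, 2, 3, 8, 1, 2, 3, 4, 3, 8, 1, 2, 3, 1, 2, 1],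
    [4, 1, 2, 3, 8, 9, 4, 2, 3, 8, 5, 6, 4, 5, 1, 2, 3, 4, 0, 1, 2, 3, 8, 9, 6, 5, 2, 3, 4, 1, 2, 3, 8, 0, 1, 2, 3, 4, 5, 6, 7, 2, 3, 8, 9, 3, 4, 2, 3, 8, 4, 5, 6, 3, 4, 5, 2, 3, 4, 0, 1, 2, 3, 8, 9, 6, 5, 2, 3, 4, 1, 2, 3, 8, 0, 1, 2, 3, 4, 5, 6, 5, 3, 4, 1, 2, 3, 8, 9, 8, 5, 3, 4, 2, 3, 8, 0, 1, 2, 3, 4, 5, 2, 3, 8, 0, 1, 2, 3, 4, 3, 8, 9, 2, 3, 8, 1, 2, 3, 9, 8, 1, 2, 1, 0],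
    [6, 4, 5, 3, 4, 2, 3, 8, 9, 6, 5, 3, 4, 2, 3, 8, 1, 2, 3, 4, 5, 6, 7, 3, 4, 2, 3, 8, 9, 3, 8, 4, 5, 3, 4, 1, 2, 3, 8, 0, 1, 2, 3, 4, 5, 6, 3, 4, 1, 2, 3, 8, 9, 5, 4, 3, 8, 0, 1, 2, 3, 4, 5, 3, 4, 2, 3, 8, 9, 3, 4, 2, 3, 8, 0, 1, 2, 3, 4, 8, 9, 3, 8, 2, 3, 9, 8, 9, 1],
    [2, 3, 8, 7, 6, 4, 5, 2, 3, 4, 1, 2, 3, 8, 9, 5, 4, 1, 2, 3, 8, 0, 1, 2, 3, 4, 5, 6, 7, 8, 9, 6, 5, 4, 3, 8, 3, 4, 5, 2, 3, 4, 1, 2, 3, 8, 9, 5, 3, 4, 1, 2, 3, 8, 0, 1, 2, 3, 4, 5, 6, 3, 4, 1, 2, 3, 8, 9, 5, 3, 4, 2, 3, 8, 0, 1, 2, 3, 4, 5, 3, 4, 1, 2, 3, 8, 9, 2, 3, 4, 1, 2, 3, 8, 0, 1, 2, 3, 4, 8, 9, 1, 2, 3, 8, 0, 1, 2, 3, 2, 9, 0, 1, 0],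
    [8, 7, 6, 5, 2, 3, 4, 1, 2, 3, 8, 9, 3, 4, 1, 2, 3, 8, 0, 1, 2, 3, 4, 5, 6, 7, 9, 3, 8, 5, 6, 4, 5, 2, 3, 4, 1, 2, 3, 8, 9, 3, 8, 5, 2, 3, 4, 1, 2, 3, 8, 0, 1, 2, 3, 4, 5, 6, 8, 5, 1, 2, 3, 4, 0, 1, 2, 3, 8, 9, 3, 8, 5, 2, 3, 4, 1, 2, 3, 8, 0, 1, 2, 3, 4, 5, 1, 2, 3, 8, 9, 3, 8, 2, 3, 4, 1, 2, 3, 8, 0, 1, 2, 3, 4, 3, 8, 9, 2, 3, 8, 1, 2, 3, 0, 1, 2, 9, 0],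
    [9, 3, 8, 7, 5, 6, 3, 4, 5, 2, 3, 4, 1, 2, 3, 8, 9, 6, 4, 5, 2, 3, 4, 1, 2, 3, 8, 0, 1, 2, 3, 4, 5, 6, 7, 3, 8, 4, 5, 3, 4, 0, 1, 2, 3, 8, 9, 5, 3, 4, 1, 2, 3, 8, 0, 1, 2, 3, 4, 5, 6, 9, 8, 5, 3, 4, 0, 1, 2, 3, 8, 9, 4, 1, 2, 3, 8, 0, 1, 2, 3, 4, 5, 4, 1, 2, 3, 8, 9, 8, 3, 4, 1, 2, 3, 8, 0, 1, 2, 3, 4, 9, 3, 8, 0, 1, 2, 3, 8, 2, 0],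
    [9, 8, 6, 4, 5, 3, 4, 2, 3, 8, 9, 2, 3, 4, 1, 2, 3, 8, 0, 1, 2, 3, 4, 5, 6, 7, 8, 9, 2, 3, 8, 6, 4, 5, 3, 4, 2, 3, 8, 9, 6, 3, 4, 5, 2, 3, 4, 1, 2, 3, 8, 0, 1, 2, 3, 4, 5, 6, 3, 8, 9, 2, 3, 8, 4, 5, 3, 4, 2, 3, 8, 9, 5, 4, 1, 2, 3, 8, 0, 1, 2, 3, 4, 5, 4, 0, 1, 2, 3, 8, 9, 4, 2, 3, 8, 1, 2, 3, 4, 9, 3, 8, 1, 2, 3, 8, 2, 1, 0],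
    [5, 4, 3, 8, 9, 3, 4, 2, 3, 8, 7, 5, 6, 4, 5, 2, 3, 4, 0, 1, 2, 3, 8, 9, 4, 5, 3, 4, 1, 2, 3, 8, 0, 1, 2, 3, 4, 5, 6, 7, 8, 3, 4, 1, 2, 3, 8, 5, 6, 4, 5, 3, 4, 1, 2, 3, 8, 9, 3, 4, 1, 2, 3, 8, 0, 1, 2, 3, 4, 5, 6, 9, 2, 3, 8, 4, 5, 3, 4, 0, 1, 2, 3, 8, 9, 5, 3, 4, 1, 2, 3, 8, 0, 1, 2, 3, 4, 5, 2, 3, 8, 9, 3, 8, 2, 3, 4, 1, 2, 3, 8, 0, 1, 2, 3, 4, 2, 3, 8, 0, 1, 2, 3, 0, 1, 2, 1, 0],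
    [4, 1, 2, 3, 8, 5, 6, 4, 5, 2, 3, 4, 1, 2, 3, 8, 9, 8, 6, 5, 2, 3, 4, 1, 2, 3, 8, 0, 1, 2, 3, 4, 5, 6, 7, 2, 3, 4, 1, 2, 3, 8, 9, 8, 5, 3, 4, 2, 3, 8, 5, 6, 4, 5, 2, 3, 4, 0, 1, 2, 3, 8, 9, 6, 5, 2, 3, 4, 1, 2, 3, 8, 0, 1, 2, 3, 4, 5, 6, 1, 2, 3, 8, 9, 8, 4, 5, 3, 4, 1, 2, 3, 8, 0, 1, 2, 3, 4, 5, 2, 3, 4, 0, 1, 2, 3, 8, 9, 2, 3, 4, 1, 2, 3, 8, 0, 1, 2, 3, 4, 8, 9, 3, 8, 2, 3, 9, 8, 9, 0, 1],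
    [4, 1, 2, 3, 8, 9, 5, 3, 4, 2, 3, 8, 1, 2, 3, 4, 5, 6, 7, 4, 3, 8, 9, 0, 1, 2, 3, 8, 5, 6, 4, 5, 3, 4, 1, 2, 3, 8, 9, 6, 5, 4, 1, 2, 3, 8, 0, 1, 2, 3, 4, 5, 6, 4, 5, 3, 4, 0, 1, 2, 3, 8, 9, 5, 3, 4, 2, 3, 8, 0, 1, 2, 3, 4, 5, 2, 3, 4, 1, 2, 3, 8, 9, 8, 2, 3, 4, 1, 2, 3, 8, 0, 1, 2, 3, 4, 2, 3, 8, 9, 1, 2, 3, 8, 0, 1, 2, 3, 2, 9, 1],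
    [0, 1, 2, 3, 8, 9, 4, 2, 3, 8, 7, 4, 5, 6, 3, 4, 5, 2, 3, 4, 1, 2, 3, 8, 9, 6, 5, 2, 3, 4, 1, 2, 3, 8, 0, 1, 2, 3, 4, 5, 6, 7, 9, 5, 4, 2, 3, 8, 4, 5, 2, 3, 4, 1, 2, 3, 8, 9, 5, 4, 1, 2, 3, 8, 0, 1, 2, 3, 4, 5, 6, 8, 2, 3, 4, 1, 2, 3, 8, 9, 4, 5, 3, 4, 2, 3, 8, 0, 1, 2, 3, 4, 5, 2, 3, 4, 0, 1, 2, 3, 8, 9, 2, 3, 4, 1, 2, 3, 8, 0, 1, 2, 3, 4, 8, 2, 3, 0, 1, 2],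
    [9, 1, 2, 3, 8, 7, 6, 4, 5, 2, 3, 4, 1, 2, 3, 8, 9, 6, 5, 3, 4, 1, 2, 3, 8, 0, 1, 2, 3, 4, 5, 6, 7, 8, 9, 4, 2, 3, 8, 4, 5, 2, 3, 4, 1, 2, 3, 8, 9, 5, 2, 3, 4, 1, 2, 3, 8, 0, 1, 2, 3, 4, 5, 6, 3, 8, 9, 5, 4, 1, 2, 3, 8, 0, 1, 2, 3, 4, 5, 3, 4, 2, 3, 8, 9, 3, 4, 2, 3, 8, 1, 2, 3, 4, 3, 8, 9, 1, 2, 3, 8, 0, 1, 2, 3, 9, 8, 1, 2, 1, 0],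
    [4, 1, 2, 3, 8, 5, 6, 4, 5, 3, 4, 1, 2, 3, 8, 9, 6, 5, 3, 4, 1, 2, 3, 8, 0, 1, 2, 3, 4, 5, 6, 7, 9, 8, 5, 6, 4, 5, 3, 4, 2, 3, 8, 9, 3, 4, 5, 2, 3, 4, 1, 2, 3, 8, 0, 1, 2, 3, 4, 5, 6, 4, 5, 3, 4, 2, 3, 8, 9, 8, 3, 4, 2, 3, 8, 1, 2, 3, 4, 5, 4, 0, 1, 2, 3, 8, 9, 4, 2, 3, 8, 0, 1, 2, 3, 4, 8, 1, 2, 3, 9, 8, 2, 9, 0, 1],
    [3, 8, 9, 8, 3, 4, 1, 2, 3, 8, 5, 6, 4, 5, 2, 3, 4, 1, 2, 3, 8, 9, 4, 5, 3, 4, 1, 2, 3, 8, 0, 1, 2, 3, 4, 5, 6, 7, 4, 3, 8, 9, 4, 2, 3, 8, 5, 6, 4, 5, 2, 3, 4, 0, 1, 2, 3, 8, 9, 5, 4, 1, 2, 3, 8, 0, 1, 2, 3, 4, 5, 6, 9, 8, 2, 3, 4, 1, 2, 3, 8, 9, 4, 5, 2, 3, 4, 1, 2, 3, 8, 0, 1, 2, 3, 4, 5, 4, 3, 8, 1, 2, 3, 4, 8, 9, 1, 2, 3,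 8, 0, 1, 2, 3, 9, 8, 0, 1, 2, 0, 1, 0],
    [0, 1, 2, 3, 8, 7, 6, 4, 5, 3, 4, 2, 3, 8, 9, 6, 5, 3, 4, 1, 2, 3, 8, 0, 1, 2, 3, 4, 5, 6, 7, 8, 9, 5, 4, 1, 2, 3, 8, 5, 6, 4, 5, 2, 3, 4, 1, 2, 3, 8, 9, 8, 5, 3, 4, 1, 2, 3, 8, 0, 1, 2, 3, 4, 5, 6, 3, 4, 1, 2, 3, 8, 9, 5, 3, 4, 2, 3, 8, 1, 2, 3, 4, 5, 8, 9, 4, 3, 8, 2, 3, 4, 1, 2, 3, 8, 0, 1, 2, 3, 4, 1, 2, 3, 0, 1],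
    [3, 4, 1, 2, 3, 8, 9, 8, 4, 5, 3, 4, 1, 2, 3, 8, 0, 1, 2, 3, 4, 5, 6, 7, 4, 3, 8, 9, 5, 4, 2, 3, 8, 5, 6, 4, 5, 2, 3, 4, 0, 1, 2, 3, 8, 9, 5, 2, 3, 4, 1, 2, 3, 8, 0, 1, 2, 3, 4, 5, 6, 3, 8, 9, 2, 3, 8, 4, 5, 3, 4, 2, 3, 8, 9, 2, 3, 4, 1, 2, 3, 8, 0, 1, 2, 3, 4, 5, 2, 3, 4, 0, 1, 2, 3, 8, 9, 3, 4, 2, 3, 8, 0, 1, 2, 3, 4, 3, 8, 9, 2, 3, 8, 0, 1, 2, 3, 8, 0, 1],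
    [1, 2, 3, 8, 9, 8, 5, 3, 4, 2, 3, 8, 5, 6, 4, 5, 2, 3, 4, 1, 2, 3, 8, 9, 8, 6, 5, 3, 4, 1, 2, 3, 8, 0, 1, 2, 3, 4, 5, 6, 7, 3, 8, 9, 4, 3, 8, 4, 5, 2, 3, 4, 0, 1, 2, 3, 8, 9, 8, 6, 5, 2, 3, 4, 1, 2, 3, 8, 0, 1, 2, 3, 4, 5, 6, 8, 2, 3, 4, 1, 2, 3, 8, 9, 5, 4, 2, 3, 8, 0, 1, 2, 3, 4, 5, 4, 1, 2, 3, 8, 9, 2, 3, 4, 1, 2, 3, 8, 0, 1, 2, 3, 4, 8, 9, 1, 2, 3, 8, 0, 1, 2, 3, 2, 1],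
    [6, 7, 5, 6, 4, 5, 3, 4, 0, 1, 2, 3, 8, 9, 8, 6, 5, 2, 3, 4, 1, 2, 3, 8, 0, 1, 2, 3, 4, 5, 6, 7, 9, 4, 2, 3, 8, 1, 2, 3, 4, 5, 6, 8, 3, 4, 5, 2, 3, 4, 0, 1, 2, 3, 8, 9, 8, 3, 4, 2, 3, 8, 0, 1, 2, 3, 4, 5, 3, 8, 9, 8, 3, 4, 2, 3, 8, 0, 1, 2, 3, 4, 8, 9, 3, 8, 0, 1, 2, 3, 8, 2, 1, 0],
    [9, 7, 6, 4, 5, 3, 4, 1, 2, 3, 8, 0, 1, 2, 3, 4, 5, 6, 7, 0, 1, 2, 3, 8, 9, 4, 3, 8, 5, 6, 4, 5, 1, 2, 3, 4, 0, 1, 2, 3, 8, 9, 6, 4, 5, 2, 3, 4, 1, 2, 3, 8, 0, 1, 2, 3, 4, 5, 6, 8, 9, 2, 3, 8, 4, 5, 3, 4, 1, 2, 3, 8, 9, 8, 4, 5, 2, 3, 4, 1, 2, 3, 8, 0, 1, 2, 3, 4, 5, 4, 3, 8, 9, 2, 3, 8, 1, 2, 3, 4, 2, 3, 8, 0, 1, 2, 3, 9, 8, 2, 9, 1],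
    [3, 4, 2, 3, 8, 9, 5, 4, 3, 8, 7, 4, 5, 6, 3, 4, 5, 2, 3, 4, 1, 2, 3, 8, 9, 5, 2, 3, 4, 1, 2, 3, 8, 0, 1, 2, 3, 4, 5, 6, 7, 8, 9, 4, 1, 2, 3, 8, 6, 4, 5, 2, 3, 4, 1, 2, 3, 8, 9, 8, 6, 4, 5, 2, 3, 4, 1, 2, 3, 8, 0, 1, 2, 3, 4, 5, 6, 3, 8, 4, 5, 2, 3, 4, 0, 1, 2, 3, 8, 9, 4, 5, 2, 3, 4, 1, 2, 3, 8, 0, 1, 2, 3, 4, 5, 3, 4, 2, 3, 8, 9, 8, 3, 4, 2, 3, 8, 1, 2, 3, 4, 8, 9, 2, 3, 8, 0, 1, 2, 3, 8, 2, 1, 0],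
    [3, 8, 9, 5, 4, 3, 8, 5, 6, 4, 5, 2, 3, 4, 0, 1, 2, 3, 8, 9, 8, 6, 5, 2, 3, 4, 1, 2, 3, 8, 0, 1, 2, 3, 4, 5, 6, 7, 2, 3, 8, 9, 6, 5, 3, 4, 2, 3, 8, 5, 6, 4, 5, 2, 3, 4, 1, 2, 3, 8, 9, 6, 5, 3, 4, 1, 2, 3, 8, 0, 1, 2, 3, 4, 5, 6, 9, 1, 2, 3, 8, 4, 5, 3, 4, 1, 2, 3, 8, 9, 8, 4, 5, 3, 4, 1, 2, 3, 8, 0, 1, 2, 3, 4, 5, 4, 2, 3, 8, 9, 8, 3, 4, 2, 3, 8, 1, 2, 3, 4, 8, 2, 3, 9, 8, 0, 1, 2, 1, 0],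
    [8, 9, 4, 3, 8, 2, 3, 4, 1, 2, 3, 8, 9, 3, 4, 5, 2, 3, 4, 1, 2, 3, 8, 0, 1, 2, 3, 4, 5, 6, 7, 5, 1, 2, 3, 4, 0, 1, 2, 3, 8, 9, 8, 3, 4, 2, 3, 8, 5, 6, 3, 4, 5, 2, 3, 4, 1, 2, 3, 8, 9, 6, 5, 2, 3, 4, 1, 2, 3, 8, 0, 1, 2, 3, 4, 5, 6, 4, 3, 8, 5, 2, 3, 4, 1, 2, 3, 8, 9, 8, 4, 5, 2, 3, 4, 1, 2, 3, 8, 0, 1, 2, 3, 4, 5, 8, 3, 4, 9, 3, 8, 1, 2, 3, 8, 2, 9, 1, 0],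
    [6, 5, 4, 0, 1, 2, 3, 8, 9, 5, 4, 2, 3, 8, 7, 5, 6, 4, 5, 2, 3, 4, 1, 2, 3, 8, 9, 8, 4, 5, 2, 3, 4, 1, 2, 3, 8, 0, 1, 2, 3, 4, 5, 6, 7, 5, 3, 4, 2, 3, 8, 9, 5, 6, 4, 5, 3, 4, 2, 3, 8, 1, 2, 3, 4, 5, 6, 5, 3, 4, 0, 1, 2, 3, 8, 9, 5, 4, 1, 2, 3, 8, 0, 1, 2, 3, 4, 5, 4, 2, 3, 8, 9, 8, 3, 4, 2, 3, 8, 1, 2, 3, 4, 2, 3, 8, 1, 2, 3, 2, 9, 0],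
    [9, 8, 4, 5, 3, 4, 2, 3, 8, 9, 7, 6, 3, 4, 5, 2, 3, 4, 1, 2, 3, 8, 0, 1, 2, 3, 4, 5, 6, 7, 6, 5, 1, 2, 3, 4, 0, 1, 2, 3, 8, 9, 4, 5, 3, 4, 2, 3, 8, 0, 1, 2, 3, 4, 5, 6, 2, 3, 8, 9, 8, 3, 4, 2, 3, 8, 0, 1, 2, 3, 4, 5, 3, 8, 9, 8, 3, 4, 2, 3, 8, 0, 1, 2, 3, 4, 2, 3, 8, 9, 1, 2, 3, 8, 0, 1, 2, 3, 0, 1, 2, 1, 0],
    [3, 8, 5, 6, 4, 5, 2, 3, 4, 1, 2, 3, 8, 9, 8, 3, 4, 2, 3, 8, 0, 1, 2, 3, 4, 5, 6, 7, 5, 4, 3, 8, 6, 5, 2, 3, 4, 1, 2, 3, 8, 9, 8, 6, 5, 3, 4, 1, 2, 3, 8, 0, 1, 2, 3, 4, 5, 6, 9, 1, 2, 3, 8, 4, 5, 3, 4, 1, 2, 3, 8, 9, 8, 5, 2, 3, 4, 1, 2, 3, 8, 0, 1, 2, 3, 4, 5, 2, 3, 8, 9, 4, 2, 3, 8, 0, 1, 2, 3, 4, 9, 2, 3, 8, 1, 2, 3, 2, 0],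
    [3, 8, 7, 5, 6, 4, 5, 3, 4, 2, 3, 8, 0, 1, 2, 3, 4, 5, 6, 7, 8, 9, 1, 2, 3, 8, 5, 6, 4, 5, 3, 4, 1, 2, 3, 8, 9, 5, 3, 4, 1, 2, 3, 8, 0, 1, 2, 3, 4, 5, 6, 4, 1, 2, 3, 8, 9, 8, 4, 5, 3, 4, 2, 3, 8, 0, 1, 2, 3, 4, 5, 2, 3, 4, 1, 2, 3, 8, 0, 1, 2, 3, 4, 3, 8, 2, 3, 1, 2, 9, 1, 0],
    [5, 3, 4, 2, 3, 8, 9, 8, 7, 6, 5, 3, 4, 2, 3, 8, 1, 2, 3, 4, 5, 6, 7, 0, 1, 2, 3, 8, 9, 3, 4, 1, 2, 3, 8, 5, 6, 4, 5, 2, 3, 4, 1, 2, 3, 8, 9, 5, 3, 4, 1, 2, 3, 8, 0, 1, 2, 3, 4, 5, 6, 5, 2, 3, 4, 1, 2, 3, 8, 9, 3, 4, 2, 3, 8, 0, 1, 2, 3, 4, 5, 4, 3, 8, 2, 3, 4, 8, 1, 2, 3, 8, 9, 0, 1, 0],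
    [8, 6, 5, 3, 4, 0, 1, 2, 3, 8, 9, 6, 4, 5, 3, 4, 1, 2, 3, 8, 0, 1, 2, 3, 4, 5, 6, 7, 9, 4, 3, 8, 4, 5, 6, 3, 4, 5, 2, 3, 4, 0, 1, 2, 3, 8, 9, 6, 5, 3, 4, 1, 2, 3, 8, 0, 1, 2, 3, 4, 5, 6, 3, 8, 9, 4, 5, 2, 3, 4, 1, 2, 3, 8, 0, 1, 2, 3, 4, 5, 8, 9, 2, 3, 4, 1, 2, 3, 8, 0, 1, 2, 3, 4, 8, 9, 3, 8, 2, 3, 1, 2, 0, 1],
    [1, 2, 3, 8, 4, 5, 3, 4, 2, 3, 8, 9, 5, 6, 4, 5, 3, 4, 1, 2, 3, 8, 0, 1, 2, 3, 4, 5, 6, 7, 2, 3, 8, 4, 5, 3, 4, 1, 2, 3, 8, 9, 8, 6, 5, 3, 4, 1, 2, 3, 8, 0, 1, 2, 3, 4, 5, 6, 8, 9, 5, 4, 2, 3, 8, 4, 5, 2, 3, 4, 1, 2, 3, 8, 9, 4, 5, 2, 3, 4, 1, 2, 3, 8, 0, 1, 2, 3, 4, 5, 3, 4, 3, 8, 9, 2, 3, 8, 1, 2, 3, 9, 8, 0, 1, 2, 9, 0],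
    [4, 3, 8, 9, 5, 4, 1, 2, 3, 8, 6, 3, 4, 5, 2, 3, 4, 1, 2, 3, 8, 9, 5, 3, 4, 1, 2, 3, 8, 0, 1, 2, 3, 4, 5, 6, 7, 9, 3, 4, 1, 2, 3, 8, 5, 6, 4, 5, 3, 4, 2, 3, 8, 9, 4, 1, 2, 3, 8, 0, 1, 2, 3, 4, 5, 6, 8, 9, 3, 8, 4, 5, 3, 4, 2, 3, 8, 9, 3, 8, 4, 5, 3, 4, 1, 2, 3, 8, 0, 1, 2, 3, 4, 5, 3, 8, 9, 8, 3, 4, 2, 3, 8, 1, 2, 3, 4, 9, 3, 8, 2, 3, 0, 1, 2, 1, 0],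
    [8, 5, 3, 4, 2, 3, 8, 9, 7, 6, 5, 4, 2, 3, 8, 1, 2, 3, 4, 5, 6, 7, 4, 0, 1, 2, 3, 8, 9, 5, 3, 4, 2, 3, 8, 5, 6, 4, 5, 2, 3, 4, 1, 2, 3, 8, 9, 8, 5, 3, 4, 1, 2, 3, 8, 0, 1, 2, 3, 4, 5, 6, 5, 4, 1, 2, 3, 8, 9, 8, 4, 5, 3, 4, 2, 3, 8, 0, 1, 2, 3, 4, 5, 2, 3, 8, 9, 2, 3, 4, 1, 2, 3, 8, 0, 1, 2, 3, 4, 9, 8, 1, 2, 3, 9, 8, 1, 2, 9],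
    [9, 3, 8, 6, 4, 5, 1, 2, 3, 4, 0, 1, 2, 3, 8, 9, 8, 7, 6, 5, 2, 3, 4, 1, 2, 3, 8, 0, 1, 2, 3, 4, 5, 6, 7, 1, 2, 3, 8, 9, 5, 2, 3, 4, 0, 1, 2, 3, 8, 5, 6, 4, 5, 2, 3, 4, 1, 2, 3, 8, 9, 4, 5, 3, 4, 1, 2, 3, 8, 0, 1, 2, 3, 4, 5, 6, 3, 4, 1, 2, 3, 8, 9, 5, 4, 2, 3, 8, 1, 2, 3, 4, 5, 8, 2, 3, 4, 1, 2, 3, 8, 0, 1, 2, 3, 4, 8, 9, 2, 3, 8, 0, 1, 2, 3, 9, 8, 2, 1, 0],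
    [8, 6, 5, 2, 3, 4, 0, 1, 2, 3, 8, 9, 5, 3, 4, 1, 2, 3, 8, 0, 1, 2, 3, 4, 5, 6, 7, 9, 8, 6, 4, 5, 3, 4, 2, 3, 8, 9, 6, 5, 3, 4, 1, 2, 3, 8, 0, 1, 2, 3, 4, 5, 6, 8, 9, 2, 3, 8, 4, 5, 1, 2, 3, 4, 0, 1, 2, 3, 8, 9, 4, 5, 2, 3, 4, 1, 2, 3, 8, 0, 1, 2, 3, 4, 5, 3, 8, 9, 3, 4, 2, 3, 8, 1, 2, 3, 4, 0, 1, 2, 3, 9, 8, 1],
    [9, 3, 8, 7, 6, 3, 4, 5, 2, 3, 4, 0, 1, 2, 3, 8, 9, 5, 2, 3, 4, 1, 2, 3, 8, 0, 1, 2, 3, 4, 5, 6, 7, 9, 4, 2, 3, 8, 5, 6, 4, 5, 3, 4, 2, 3, 8, 9, 8, 6, 5, 3, 4, 1, 2, 3, 8, 0, 1, 2, 3, 4, 5, 6, 2, 3, 8, 9, 8, 2, 3, 4, 1, 2, 3, 8, 0, 1, 2, 3, 4, 5, 8, 9, 4, 3, 8, 2, 3, 4, 9, 8, 0, 1, 2, 3, 8, 0, 1, 0],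
    [9, 8, 6, 7, 5, 6, 4, 5, 2, 3, 4, 0, 1, 2, 3, 8, 9, 6, 5, 2, 3, 4, 1, 2, 3, 8, 0, 1, 2, 3, 4, 5, 6, 7, 3, 8, 4, 5, 6, 3, 4, 5, 2, 3, 4, 0, 1, 2, 3, 8, 9, 6, 5, 3, 4, 2, 3, 8, 0, 1, 2, 3, 4, 5, 6, 4, 3, 8, 9, 5, 4, 2, 3, 8, 1, 2, 3, 4, 5, 3, 8, 9, 4, 2, 3, 8, 1, 2, 3, 4, 9, 2, 3, 8, 0, 1, 2, 3, 8, 0, 1, 2, 1],
    [8, 9, 4, 3, 8, 2, 3, 4, 1, 2, 3, 8, 9, 3, 4, 5, 2, 3, 4, 1, 2, 3, 8, 0, 1, 2, 3, 4, 5, 6, 7, 8, 3, 4, 2, 3, 8, 9, 8, 5, 3, 4, 2, 3, 8, 0, 1, 2, 3, 4, 5, 6, 9, 3, 4, 2, 3, 8, 1, 2, 3, 4, 5, 8, 3, 4, 2, 3, 8, 0, 1, 2, 3, 4, 9, 3, 8, 2, 3, 9, 8, 1, 2, 9, 0, 1],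
    [6, 2, 3, 4, 5, 1, 2, 3, 4, 0, 1, 2, 3, 8, 9, 3, 4, 2, 3, 8, 0, 1, 2, 3, 4, 5, 6, 7, 8, 9, 0, 1, 2, 3, 8, 5, 6, 4, 5, 3, 4, 0, 1, 2, 3, 8, 9, 6, 5, 4, 1, 2, 3, 8, 0, 1, 2, 3, 4, 5, 6, 2, 3, 8, 4, 5, 3, 4, 2, 3, 8, 1, 2, 3, 4, 5, 4, 1, 2, 3, 8, 9, 3, 4, 1, 2, 3, 8, 0, 1, 2, 3, 4, 9, 2, 3, 8, 1, 2, 3, 8, 0, 1, 2, 9, 0],
    [3, 8, 9, 3, 4, 2, 3, 8, 5, 6, 3, 4, 5, 2, 3, 4, 1, 2, 3, 8, 9, 5, 3, 4, 1, 2, 3, 8, 0, 1, 2, 3, 4, 5, 6, 7, 4, 1, 2, 3, 8, 9, 6, 5, 3, 4, 2, 3, 8, 1, 2, 3, 4, 5, 6, 9, 4, 1, 2, 3, 8, 3, 4, 5, 2, 3, 4, 1, 2, 3, 8, 9, 5, 3, 4, 1, 2, 3, 8, 0, 1, 2, 3, 4, 5, 3, 4, 2, 3, 8, 9, 3, 8, 2, 3, 4, 1, 2, 3, 8, 0, 1, 2, 3, 4, 3, 8, 9, 1,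 2, 3, 8, 0, 1, 2, 3, 9, 8, 1, 2, 9],
    [2, 3, 8, 6, 4, 5, 3, 4, 1, 2, 3, 8, 9, 4, 1, 2, 3, 8, 0, 1, 2, 3, 4, 5, 6, 7, 6, 5, 4, 1, 2, 3, 8, 9, 8, 5, 3, 4, 2, 3, 8, 1, 2, 3, 4, 5, 6, 3, 8, 9, 3, 4, 2, 3, 8, 0, 1, 2, 3, 4, 5, 9, 8, 3, 4, 2, 3, 8, 9, 8, 2, 3, 4, 1, 2, 3, 8, 0, 1, 2, 3, 4, 3, 8, 0, 1, 2, 3, 1, 2, 0],
    [1, 2, 3, 8, 9, 4, 2, 3, 8, 7, 5, 6, 4, 5, 2, 3, 4, 0, 1, 2, 3, 8, 9, 5, 3, 4, 1, 2, 3, 8, 0, 1, 2, 3, 4, 5, 6, 7, 3, 8, 9, 5, 3, 4, 2, 3, 8, 1, 2, 3, 4, 5, 6, 3, 8, 9, 2, 3, 8, 4, 5, 2, 3, 4, 1, 2, 3, 8, 9, 8, 4, 5, 2, 3, 4, 1, 2, 3, 8, 0, 1, 2, 3, 4, 5, 8, 9, 3, 4, 2, 3, 8, 0, 1, 2, 3, 4, 9, 3, 8, 2, 3, 8, 2, 9, 1, 0],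
    [9, 4, 2, 3, 8, 5, 6, 3, 4, 5, 2, 3, 4, 1, 2, 3, 8, 9, 8, 4, 5, 2, 3, 4, 1, 2, 3, 8, 0, 1, 2, 3, 4, 5, 6, 7, 8, 9, 5, 4, 1, 2, 3, 8, 4, 5, 6, 3, 4, 5, 2, 3, 4, 1, 2, 3, 8, 9, 5, 3, 4, 1, 2, 3, 8, 0, 1, 2, 3, 4, 5, 6, 4, 5, 3, 4, 2, 3, 8, 0, 1, 2, 3, 4, 5, 9, 3, 8, 2, 3, 4, 1, 2, 3, 8, 0, 1, 2, 3, 4, 9, 3, 8, 0, 1, 2, 3, 9, 8, 0, 1, 2, 9, 0],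
    [3, 8, 4, 5, 3, 4, 2, 3, 8, 9, 6, 4, 5, 3, 4, 1, 2, 3, 8, 0, 1, 2, 3, 4, 5, 6, 7, 3, 4, 2, 3, 8, 9, 4, 5, 2, 3, 4, 1, 2, 3, 8, 0, 1, 2, 3, 4, 5, 6, 8, 9, 4, 1, 2, 3, 8, 4, 5, 2, 3, 4, 1, 2, 3, 8, 9, 4, 5, 2, 3, 4, 1, 2, 3, 8, 0, 1, 2, 3, 4, 5, 9, 8, 1, 2, 3, 4, 8, 0, 1, 2, 3, 2, 1],
    [3, 4, 2, 3, 8, 5, 6, 4, 5, 3, 4, 1, 2, 3, 8, 9, 5, 4, 1, 2, 3, 8, 0, 1, 2, 3, 4, 5, 6, 7, 9, 6, 5, 3, 4, 2, 3, 8, 5, 6, 4, 5, 2, 3, 4, 1, 2, 3, 8, 9, 4, 5, 2, 3, 4, 1, 2, 3, 8, 0, 1, 2, 3, 4, 5, 6, 8, 9, 3, 8, 5, 2, 3, 4, 1, 2, 3, 8, 0, 1, 2, 3, 4, 5, 4, 2, 3, 8, 9, 3, 4, 1, 2, 3, 8, 0, 1, 2, 3, 4, 3, 9, 8, 1, 2],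
    [6, 5, 4, 0, 1, 2, 3, 8, 9, 7, 6, 5, 4, 3, 8, 2, 3, 4, 5, 6, 7, 5, 4, 1, 2, 3, 8, 9, 6, 5, 4, 2, 3, 8, 1, 2, 3, 4, 5, 6, 8, 3, 4, 0, 1, 2, 3, 8, 9, 2, 3, 4, 1, 2, 3, 8, 0, 1, 2, 3, 4, 5, 9, 8, 3, 4, 1, 2, 3, 8, 9, 3, 4, 1, 2, 3, 8, 0, 1, 2, 3, 4, 2, 3, 8, 9, 1, 2, 3, 8, 0, 1, 2, 3, 8, 1, 2, 9, 1, 0],
    [4, 3, 8, 3, 4, 5, 2, 3, 4, 1, 2, 3, 8, 9, 6, 4, 5, 3, 4, 1, 2, 3, 8, 0, 1, 2, 3, 4, 5, 6, 7, 8, 9, 3, 4, 1, 2, 3, 8, 5, 6, 4, 5, 3, 4, 1, 2, 3, 8, 9, 5, 3, 4, 1, 2, 3, 8, 0, 1, 2, 3, 4, 5, 6, 5, 3, 4, 2, 3, 8, 9, 8, 5, 2, 3, 4, 1, 2, 3, 8, 0, 1, 2, 3, 4, 5, 4, 2, 3, 8, 9, 8, 3, 4, 2, 3, 8, 1, 2, 3, 4, 8, 1, 2, 3, 8, 2, 0, 1, 0],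
    [9, 8, 6, 4, 5, 3, 4, 1, 2, 3, 8, 9, 4, 5, 3, 4, 1, 2, 3, 8, 0, 1, 2, 3, 4, 5, 6, 7, 5, 4, 0, 1, 2, 3, 8, 9, 8, 5, 3, 4, 2, 3, 8, 4, 5, 6, 3, 4, 5, 2, 3, 4, 1, 2, 3, 8, 9, 5, 3, 4, 1, 2, 3, 8, 0, 1, 2, 3, 4, 5, 6, 2, 3, 4, 0, 1, 2, 3, 8, 9, 3, 4, 5, 2, 3, 4, 1, 2, 3, 8, 0, 1, 2, 3, 4, 5, 3, 4, 1, 2, 3, 8, 9, 4, 1, 2, 3, 8, 0, 1, 2, 3, 4, 9, 8, 0, 1, 2, 3, 9, 8, 1, 2, 1, 0],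
    [5, 3, 4, 0, 1, 2, 3, 8, 9, 6, 4, 5, 3, 4, 1, 2, 3, 8, 0, 1, 2, 3, 4, 5, 6, 7, 8, 9, 0, 1, 2, 3, 8, 5, 6, 4, 5, 3, 4, 1, 2, 3, 8, 9, 2, 3, 4, 1, 2, 3, 8, 0, 1, 2, 3, 4, 5, 6, 3, 8, 9, 1, 2, 3, 8, 4, 5, 3, 4, 2, 3, 8, 9, 2, 3, 4, 1, 2, 3, 8, 0, 1, 2, 3, 4, 5, 3, 8, 9, 4, 2, 3, 8, 1, 2, 3, 4, 8, 9, 2, 3, 8, 1, 2, 3, 0, 1, 2, 1],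
    [1, 2, 3, 8, 9, 6, 5, 4, 3, 8, 7, 6, 4, 5, 2, 3, 4, 1, 2, 3, 8, 9, 5, 2, 3, 4, 1, 2, 3, 8, 0, 1, 2, 3, 4, 5, 6, 7, 8, 4, 5, 6, 3, 4, 5, 2, 3, 4, 0, 1, 2, 3, 8, 9, 6, 5, 3, 4, 2, 3, 8, 0, 1, 2, 3, 4, 5, 6, 8, 9, 0, 1, 2, 3, 8, 4, 5, 3, 4, 0, 1, 2, 3, 8, 9, 4, 5, 3, 4, 1, 2, 3, 8, 0, 1, 2, 3, 4, 5, 2, 3, 4, 1, 2, 3, 8, 9, 8, 2, 3, 4, 1, 2, 3, 8, 0, 1, 2, 3, 4, 8, 9, 2, 3, 8, 0, 1, 2, 3, 9, 8, 1],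
    [3, 8, 9, 5, 4, 3, 8, 4, 5, 2, 3, 4, 1, 2, 3, 8, 9, 6, 5, 2, 3, 4, 1, 2, 3, 8, 0, 1, 2, 3, 4, 5, 6, 7, 4, 3, 8, 9, 1, 2, 3, 8, 5, 6, 3, 4, 5, 2, 3, 4, 1, 2, 3, 8, 9, 6, 5, 3, 4, 1, 2, 3, 8, 0, 1, 2, 3, 4, 5, 6, 3, 8, 4, 5, 3, 4, 2, 3, 8, 1, 2, 3, 4, 5, 9, 2, 3, 8, 1, 2, 3, 4, 8, 9, 3, 8, 2, 3, 9, 8, 9],
    [5, 4, 3, 8, 9, 8, 6, 4, 5, 3, 4, 1, 2, 3, 8, 0, 1, 2, 3, 4, 5, 6, 7, 3, 4, 2, 3, 8, 9, 0, 1, 2, 3, 8, 4, 5, 6, 3, 4, 5, 2, 3, 4, 1, 2, 3, 8, 9, 2, 3, 4, 1, 2, 3, 8, 0, 1, 2, 3, 4, 5, 6, 3, 8, 2, 3, 4, 1, 2, 3, 8, 0, 1, 2, 3, 4, 5, 2, 3, 8, 9, 3, 4, 2, 3, 8, 1, 2, 3, 4, 0, 1, 2, 3, 2, 9, 0, 1],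
    [9, 8, 6, 3, 4, 5, 2, 3, 4, 1, 2, 3, 8, 9, 7, 6, 5, 4, 3, 8, 0, 1, 2, 3, 4, 5, 6, 7, 9, 4, 3, 8, 5, 6, 4, 5, 2, 3, 4, 1, 2, 3, 8, 9, 8, 6, 4, 5, 2, 3, 4, 1, 2, 3, 8, 0, 1, 2, 3, 4, 5, 6, 3, 8, 4, 5, 3, 4, 2, 3, 8, 9, 4, 5, 3, 4, 2, 3, 8, 1, 2, 3, 4, 5, 3, 4, 2, 3, 8, 9, 3, 4, 1, 2, 3, 8, 0, 1, 2, 3, 4, 3, 8, 9, 1, 2, 3, 8, 0, 1, 2, 3, 9, 8, 2, 9, 0],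
    [8, 9, 3, 8, 6, 4, 5, 3, 4, 0, 1, 2, 3, 8, 9, 7, 6, 5, 3, 4, 1, 2, 3, 8, 0, 1, 2, 3, 4, 5, 6, 7, 9, 4, 0, 1, 2, 3, 8, 4, 5, 6, 3, 4, 5, 2, 3, 4, 0, 1, 2, 3, 8, 9, 5, 3, 4, 1, 2, 3, 8, 0, 1, 2, 3, 4, 5, 6, 9, 3, 8, 1, 2, 3, 4, 0, 1, 2, 3, 8, 9, 3, 4, 5, 2, 3, 4, 1, 2, 3, 8, 0, 1, 2, 3, 4, 5, 1, 2, 3, 4, 0, 1, 2, 3, 8, 9, 8, 3, 4, 2, 3, 8, 1, 2, 3, 4, 1, 2, 3, 8, 0, 1, 2, 3, 9, 8, 0, 1],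
    [8, 9, 3, 8, 4, 5, 2, 3, 4, 0, 1, 2, 3, 8, 9, 4, 5, 3, 4, 1, 2, 3, 8, 0, 1, 2, 3, 4, 5, 6, 7, 9, 2, 3, 8, 3, 4, 5, 2, 3, 4, 1, 2, 3, 8, 9, 5, 3, 4, 1, 2, 3, 8, 0, 1, 2, 3, 4, 5, 6, 9, 3, 8, 4, 5, 3, 4, 2, 3, 8, 9, 3, 8, 5, 2, 3, 4, 1, 2, 3, 8, 0, 1, 2, 3, 4, 5, 3, 4, 2, 3, 8, 0, 1, 2, 3, 4, 0, 1, 2, 9, 0, 1],
    [1, 2, 3, 8, 9, 5, 4, 3, 8, 5, 6, 3, 4, 5, 2, 3, 4, 1, 2, 3, 8, 9, 4, 5, 3, 4, 1, 2, 3, 8, 0, 1, 2, 3, 4, 5, 6, 7, 9, 4, 3, 8, 4, 5, 6, 3, 4, 5, 2, 3, 4, 1, 2, 3, 8, 9, 8, 6, 5, 3, 4, 2, 3, 8, 0, 1, 2, 3, 4, 5, 6, 3, 8, 4, 5, 3, 4, 2, 3, 8, 9, 8, 5, 3, 4, 2, 3, 8, 1, 2, 3, 4, 5, 4, 2, 3, 8, 9, 4, 2, 3, 8, 0, 1, 2, 3, 4, 8, 9, 2, 3, 8,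 0, 1, 2, 3, 1, 2, 9],
    [4, 3, 8, 3, 4, 5, 2, 3, 4, 1, 2, 3, 8, 9, 6, 4, 5, 3, 4, 1, 2, 3, 8, 0, 1, 2, 3, 4, 5, 6, 7, 8, 9, 4, 2, 3, 8, 6, 4, 5, 2, 3, 4, 1, 2, 3, 8, 9, 8, 5, 3, 4, 1, 2, 3, 8, 0, 1, 2, 3, 4, 5, 6, 8, 9, 3, 8, 4, 5, 1, 2, 3, 4, 0, 1, 2, 3, 8, 9, 5, 2, 3, 4, 1, 2, 3, 8, 0, 1, 2, 3, 4, 5, 4, 0, 1, 2, 3, 8, 9, 8, 2, 3, 4, 1, 2, 3, 8, 0, 1, 2, 3, 4, 9, 8, 0, 1, 2, 3, 9, 8, 9, 1, 0],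
    [8, 9, 0, 1, 2, 3, 8, 6, 4, 5, 2, 3, 4, 0, 1, 2, 3, 8, 9, 5, 4, 1, 2, 3, 8, 0, 1, 2, 3, 4, 5, 6, 7, 8, 9, 0, 1, 2, 3, 8, 6, 4, 5, 3, 4, 2, 3, 8, 9, 5, 4, 1, 2, 3, 8, 0, 1, 2, 3, 4, 5, 6, 1, 2, 3, 8, 9, 5, 4, 1, 2, 3, 8, 0, 1, 2, 3, 4, 5, 4, 1, 2, 3, 8, 9, 3, 8, 2, 3, 4, 1, 2, 3, 8, 0, 1, 2, 3, 4, 9, 2, 3, 8, 0, 1, 2, 3, 8, 2, 9, 1, 0],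
    [9, 4, 3, 8, 7, 5, 6, 3, 4, 5, 2, 3, 4, 1, 2, 3, 8, 9, 8, 4, 5, 3, 4, 1, 2, 3, 8, 0, 1, 2, 3, 4, 5, 6, 7, 8, 9, 0, 1, 2, 3, 8, 4, 5, 3, 4, 2, 3, 8, 9, 6, 5, 4, 1, 2, 3, 8, 0, 1, 2, 3, 4, 5, 6, 3, 8, 9, 4, 1, 2, 3, 8, 4, 5, 2, 3, 4, 1, 2, 3, 8, 9, 5, 3, 4, 1, 2, 3, 8, 0, 1, 2, 3, 4, 5, 4, 3, 8, 9, 4, 3, 8, 2, 3, 4, 1, 2, 3, 8, 0, 1, 2, 3, 4, 1, 2, 3, 8, 0, 1, 2, 3, 8, 2, 0, 1],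
    [4, 3, 8, 9, 8, 7, 5, 6, 4, 5, 3, 4, 2, 3, 8, 0, 1, 2, 3, 4, 5, 6, 7, 2, 3, 8, 9, 4, 3, 8, 3, 4, 5, 2, 3, 4, 1, 2, 3, 8, 9, 5, 2, 3, 4, 1, 2, 3, 8, 0, 1, 2, 3, 4, 5, 6, 9, 8, 4, 5, 2, 3, 4, 1, 2, 3, 8, 9, 8, 5, 3, 4, 1, 2, 3, 8, 0, 1, 2, 3, 4, 5, 8, 3, 4, 2, 3, 8, 0, 1, 2, 3, 4, 9, 8, 0, 1, 2, 3, 8, 1, 2, 9, 0, 1, 0],
    [7, 6, 4, 5, 3, 4, 1, 2, 3, 8, 9, 6, 5, 4, 2, 3, 8, 1, 2, 3, 4, 5, 6, 7, 4, 0, 1, 2, 3, 8, 9, 6, 5, 4, 2, 3, 8, 5, 6, 3, 4, 5, 2, 3, 4, 1, 2, 3, 8, 9, 5, 3, 4, 1, 2, 3, 8, 0, 1, 2, 3, 4, 5, 6, 9, 8, 3, 4, 2, 3, 8, 9, 8, 3, 4, 1, 2, 3, 8, 0, 1, 2, 3, 4, 5, 3, 4, 2, 3, 8, 0, 1, 2, 3, 4, 8, 1, 2, 3, 8, 2, 1, 0],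
    [9, 4, 2, 3, 8, 5, 6, 3, 4, 5, 2, 3, 4, 1, 2, 3, 8, 9, 4, 5, 3, 4, 1, 2, 3, 8, 0, 1, 2, 3, 4, 5, 6, 7, 8, 9, 3, 4, 2, 3, 8, 5, 6, 4, 5, 3, 4, 2, 3, 8, 9, 8, 5, 2, 3, 4, 1, 2, 3, 8, 0, 1, 2, 3, 4, 5, 6, 3, 4, 2, 3, 8, 9, 4, 5, 3, 4, 2, 3, 8, 0, 1, 2, 3, 4, 5, 0, 1, 2, 3, 8, 9, 3, 4, 2, 3, 8, 0, 1, 2, 3, 4, 1, 2, 3, 9, 8, 9, 0, 1],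
    [1, 2, 3, 8, 9, 4, 3, 8, 7, 5, 6, 3, 4, 5, 2, 3, 4, 0, 1, 2, 3, 8, 9, 8, 6, 5, 2, 3, 4, 1, 2, 3, 8, 0, 1, 2, 3, 4, 5, 6, 7, 6, 5, 4, 0, 1, 2, 3, 8, 9, 5, 2, 3, 4, 1, 2, 3, 8, 0, 1, 2, 3, 4, 5, 6, 8, 5, 3, 4, 2, 3, 8, 9, 3, 8, 4, 5, 3, 4, 1, 2, 3, 8, 0, 1, 2, 3, 4, 5, 4, 2, 3, 8, 9, 8, 2, 3, 4, 1, 2, 3, 8, 0, 1, 2, 3, 4, 3, 8, 9, 2, 3, 8, 0, 1, 2, 3, 9, 8, 1, 2, 1, 0],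
    [8, 9, 4, 3, 8, 6, 5, 2, 3, 4, 0, 1, 2, 3, 8, 9, 7, 6, 5, 2, 3, 4, 1, 2, 3, 8, 0, 1, 2, 3, 4, 5, 6, 7, 4, 5, 3, 4, 2, 3, 8, 9, 3, 4, 2, 3, 8, 5, 6, 3, 4, 5, 2, 3, 4, 0, 1, 2, 3, 8, 9, 6, 5, 2, 3, 4, 1, 2, 3, 8, 0, 1, 2, 3, 4, 5, 6, 5, 4, 3, 8, 9, 8, 4, 5, 3, 4, 2, 3, 8, 1, 2, 3, 4, 5, 1, 2, 3, 8, 9, 4, 2, 3, 8, 0, 1, 2, 3, 4, 1, 2, 3, 8, 0, 1, 2, 3, 8, 1, 0],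
    [1, 2, 3, 8, 9, 3, 4, 2, 3, 8, 7, 5, 6, 4, 5, 2, 3, 4, 1, 2, 3, 8, 9, 8, 5, 3, 4, 1, 2, 3, 8, 0, 1, 2, 3, 4, 5, 6, 7, 4, 0, 1, 2, 3, 8, 5, 6, 4, 5, 3, 4, 1, 2, 3, 8, 9, 5, 2, 3, 4, 1, 2, 3, 8, 0, 1, 2, 3, 4, 5, 6, 4, 2, 3, 8, 9, 5, 4, 3, 8, 2, 3, 4, 5, 9, 8, 3, 4, 2, 3, 8, 9, 1, 2, 3, 8, 0, 1, 2, 3, 4, 9, 8, 2, 3, 8, 9, 1, 0],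
    [9, 6, 5, 4, 2, 3, 8, 4, 5, 2, 3, 4, 1, 2, 3, 8, 9, 4, 5, 2, 3, 4, 1, 2, 3, 8, 0, 1, 2, 3, 4, 5, 6, 7, 3, 8, 9, 4, 3, 8, 5, 6, 3, 4, 5, 2, 3, 4, 1, 2, 3, 8, 9, 6, 4, 5, 2, 3, 4, 1, 2, 3, 8, 0, 1, 2, 3, 4, 5, 6, 8, 3, 4, 2, 3, 8, 9, 4, 5, 3, 4, 2, 3, 8, 0, 1, 2, 3, 4, 5, 4, 2, 3, 8, 9, 2, 3, 4, 1, 2, 3, 8, 0, 1, 2, 3, 4, 8, 9, 2, 3, 8, 0, 1, 2, 3, 9, 8, 1, 0],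
    [9, 8, 4, 5, 3, 4, 0, 1, 2, 3, 8, 9, 8, 7, 6, 5, 3, 4, 1, 2, 3, 8, 0, 1, 2, 3, 4, 5, 6, 7, 3, 4, 2, 3, 8, 9, 5, 4, 2, 3, 8, 6, 4, 5, 2, 3, 4, 0, 1, 2, 3, 8, 9, 5, 2, 3, 4, 1, 2, 3, 8, 0, 1, 2, 3, 4, 5, 6, 4, 5, 3, 4, 1, 2, 3, 8, 9, 8, 4, 5, 3, 4, 1, 2, 3, 8, 0, 1, 2, 3, 4, 5, 4, 3, 8, 9, 2, 3, 4, 1, 2, 3, 8, 0, 1, 2, 3, 4, 8, 9, 2, 3, 8, 0, 1, 2, 3, 0, 1, 2, 9, 1],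
    [3, 8, 9, 3, 4, 2, 3, 8, 5, 6, 4, 5, 3, 4, 1, 2, 3, 8, 9, 6, 5, 4, 1, 2, 3, 8, 0, 1, 2, 3, 4, 5, 6, 7, 4, 2, 3, 8, 9, 3, 4, 1, 2, 3, 8, 0, 1, 2, 3, 4, 5, 6, 4, 3, 8, 9, 2, 3, 8, 4, 5, 3, 4, 2, 3, 8, 9, 5, 4, 1, 2, 3, 8, 0, 1, 2, 3, 4, 5, 3, 4, 2, 3, 8, 9, 3, 4, 2, 3, 8, 0, 1, 2, 3, 4, 2, 3, 8, 0, 1, 2, 3, 9, 8, 9],
    [9, 2, 3, 8, 7, 6, 4, 5, 2, 3, 4, 1, 2, 3, 8, 9, 6, 4, 5, 3, 4, 1, 2, 3, 8, 0, 1, 2, 3, 4, 5, 6, 7, 9, 4, 3, 8, 5, 6, 4, 5, 3, 4, 1, 2, 3, 8, 9, 3, 4, 5, 2, 3, 4, 1, 2, 3, 8, 0, 1, 2, 3, 4, 5, 6, 5, 4, 3, 8, 2, 3, 4, 5, 2, 3, 4, 0, 1, 2, 3, 8, 9, 8, 3, 4, 2, 3, 8, 0, 1, 2, 3, 4, 8, 9, 3, 8, 0, 1, 2, 3, 8, 1, 2, 9],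
    [1, 2, 3, 8, 9, 4, 3, 8, 7, 5, 6, 3, 4, 5, 2, 3, 4, 0, 1, 2, 3, 8, 9, 8, 6, 5, 2, 3, 4, 1, 2, 3, 8, 0, 1, 2, 3, 4, 5, 6, 7, 9, 4, 5, 6, 3, 4, 5, 2, 3, 4, 1, 2, 3, 8, 0, 1, 2, 3, 4, 5, 6, 3, 8, 2, 3, 4, 0, 1, 2, 3, 8, 9, 8, 5, 2, 3, 4, 1, 2, 3, 8, 0, 1, 2, 3, 4, 5, 8, 9, 8, 3, 4, 1, 2, 3, 8, 0, 1, 2, 3, 4, 8, 9, 2, 3, 8, 0, 1, 2, 3, 8, 1, 2, 9, 0, 1],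
    [3, 4, 0, 1, 2, 3, 8, 9, 5, 3, 4, 2, 3, 8, 5, 6, 4, 5, 2, 3, 4, 1, 2, 3, 8, 9, 8, 5, 3, 4, 1, 2, 3, 8, 0, 1, 2, 3, 4, 5, 6, 7, 3, 8, 9, 5, 4, 3, 8, 6, 3, 4, 5, 2, 3, 4, 1, 2, 3, 8, 9, 6, 5, 2, 3, 4, 1, 2, 3, 8, 0, 1, 2, 3, 4, 5, 6, 3, 8, 5, 2, 3, 4, 0, 1, 2, 3, 8, 9, 3, 8, 5, 2, 3, 4, 1, 2, 3, 8, 0, 1, 2, 3, 4, 5, 8, 9, 8, 3, 4, 2, 3, 8, 0, 1, 2, 3, 4, 9, 2, 3, 8, 1, 2, 3, 0, 1, 2, 9, 0],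
    [8, 9, 4, 1, 2, 3, 8, 5, 6, 4, 5, 2, 3, 4, 1, 2, 3, 8, 9, 6, 4, 5, 3, 4, 1, 2, 3, 8, 0, 1, 2, 3, 4, 5, 6, 7, 9, 0, 1, 2, 3, 8, 6, 4, 5, 2, 3, 4, 0, 1, 2, 3, 8, 9, 5, 3, 4, 1, 2, 3, 8, 0, 1, 2, 3, 4, 5, 6, 8, 9, 4, 3, 8, 4, 5, 2, 3, 4, 0, 1, 2, 3, 8, 9, 4, 5, 2, 3, 4, 1, 2, 3, 8, 0, 1, 2, 3, 4, 5, 3, 4, 1, 2, 3, 8, 9, 8, 3, 4, 1, 2, 3, 8, 0, 1, 2, 3, 4, 3, 8, 0, 1, 2, 3, 8, 9, 0, 1],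
    [3, 8, 7, 4, 5, 6, 3, 4, 5, 2, 3, 4, 1, 2, 3, 8, 9, 6, 5, 2, 3, 4, 1, 2, 3, 8, 0, 1, 2, 3, 4, 5, 6, 7, 9, 8, 5, 3, 4, 2, 3, 8, 5, 6, 4, 5, 2, 3, 4, 0, 1, 2, 3, 8, 9, 5, 2, 3, 4, 1, 2, 3, 8, 0, 1, 2, 3, 4, 5, 6, 3, 8, 9, 5, 3, 4, 1, 2, 3, 8, 0, 1, 2, 3, 4, 5, 9, 3, 8, 1, 2, 3, 4, 3, 8, 9, 2, 3, 8, 0, 1, 2, 3, 9, 8, 9, 1],
    [6, 7, 5, 6, 4, 5, 2, 3, 4, 0, 1, 2, 3, 8, 9, 8, 5, 2, 3, 4, 1, 2, 3, 8, 0, 1, 2, 3, 4, 5, 6, 7, 5, 3, 4, 1, 2, 3, 8, 9, 3, 4, 2, 3, 8, 4, 5, 6, 3, 4, 5, 2, 3, 4, 0, 1, 2, 3, 8, 9, 6, 5, 2, 3, 4, 1, 2, 3, 8, 0, 1, 2, 3, 4, 5, 6, 1, 2, 3, 8, 4, 5, 3, 4, 0, 1, 2, 3, 8, 9, 5, 4, 1, 2, 3, 8, 0, 1, 2, 3, 4, 5, 9, 4, 3, 8, 2, 3,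 4, 3, 8, 1, 2, 3, 8, 1, 2, 1],
    [8, 6, 4, 5, 3, 4, 1, 2, 3, 8, 9, 8, 5, 6, 4, 5, 2, 3, 4, 1, 2, 3, 8, 0, 1, 2, 3, 4, 5, 6, 7, 4, 1, 2, 3, 8, 9, 5, 4, 3, 8, 5, 6, 3, 4, 5, 2, 3, 4, 1, 2, 3, 8, 9, 8, 6, 5, 2, 3, 4, 1, 2, 3, 8, 0, 1, 2, 3, 4, 5, 6, 3, 8, 9, 2, 3, 8, 4, 5, 3, 4, 2, 3, 8, 9, 8, 4, 5, 3, 4, 1, 2, 3, 8, 0, 1, 2, 3, 4, 5, 1, 2, 3, 8, 9, 8, 2, 3, 4, 1, 2, 3, 8, 0, 1, 2, 3, 4, 8, 2, 3, 8, 2, 1, 0],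
    [3, 8, 9, 3, 4, 2, 3, 8, 0, 1, 2, 3, 4, 5, 6, 7, 6, 5, 3, 4, 1, 2, 3, 8, 9, 8, 3, 4, 2, 3, 8, 5, 6, 4, 5, 2, 3, 4, 1, 2, 3, 8, 9, 6, 5, 2, 3, 4, 1, 2, 3, 8, 0, 1, 2, 3, 4, 5, 6, 4, 1, 2, 3, 8, 9, 8, 4, 5, 3, 4, 2, 3, 8, 0, 1, 2, 3, 4, 5, 3, 8, 9, 4, 3, 8, 0, 1, 2, 3, 4, 2, 3, 8, 1, 2, 3, 8, 0, 1, 2, 1],
    [9, 8, 4, 5, 3, 4, 0, 1, 2, 3, 8, 9, 8, 7, 6, 5, 3, 4, 1, 2, 3, 8, 0, 1, 2, 3, 4, 5, 6, 7, 6, 5, 4, 2, 3, 8, 9, 5, 4, 2, 3, 8, 4, 5, 6, 3, 4, 5, 2, 3, 4, 1, 2, 3, 8, 9, 5, 3, 4, 1, 2, 3, 8, 0, 1, 2, 3, 4, 5, 6, 5, 3, 4, 1, 2, 3, 8, 9, 5, 4, 2, 3, 8, 0, 1, 2, 3, 4, 5, 9, 3, 4, 1, 2, 3, 8, 0, 1, 2, 3, 4, 3, 8, 2, 3, 9, 8, 2, 9],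
    [0, 1, 2, 3, 8, 9, 8, 5, 3, 4, 2, 3, 8, 5, 6, 3, 4, 5, 2, 3, 4, 1, 2, 3, 8, 9, 5, 3, 4, 1, 2, 3, 8, 0, 1, 2, 3, 4, 5, 6, 7, 4, 1, 2, 3, 8, 4, 5, 6, 3, 4, 5, 2, 3, 4, 1, 2, 3, 8, 9, 4, 5, 3, 4, 1, 2, 3, 8, 0, 1, 2, 3, 4, 5, 6, 5, 2, 3, 4, 1, 2, 3, 8, 9, 4, 5, 2, 3, 4, 1, 2, 3, 8, 0, 1, 2, 3, 4, 5, 4, 9, 1, 2, 3, 8, 0, 1, 2, 3, 9, 8, 0, 1, 2, 9],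
    [4, 2, 3, 8, 9, 7, 6, 5, 4, 3, 8, 0, 1, 2, 3, 4, 5, 6, 7, 9, 3, 8, 1, 2, 3, 4, 0, 1, 2, 3, 8, 9, 6, 3, 4, 5, 2, 3, 4, 1, 2, 3, 8, 0, 1, 2, 3, 4, 5, 6, 3, 8, 9, 4, 3, 8, 2, 3, 4, 9, 1, 2, 3, 8, 0, 1, 2, 3, 1, 2, 9],
    [8, 9, 2, 3, 8, 3, 4, 5, 2, 3, 4, 1, 2, 3, 8, 9, 8, 6, 5, 2, 3, 4, 1, 2, 3, 8, 0, 1, 2, 3, 4, 5, 6, 7, 5, 4, 2, 3, 8, 9, 4, 2, 3, 8, 5, 6, 3, 4, 5, 2, 3, 4, 1, 2, 3, 8, 9, 8, 4, 5, 2, 3, 4, 1, 2, 3, 8, 0, 1, 2, 3, 4, 5, 6, 8, 9, 4, 2, 3, 8, 3, 4, 5, 2, 3, 4, 1, 2, 3, 8, 9, 4, 5, 2, 3, 4, 1, 2, 3, 8, 0, 1, 2, 3, 4, 5, 0, 1, 2, 3, 8, 9, 3, 4, 1, 2, 3, 8, 0, 1, 2, 3, 4, 8, 3, 9, 8, 9, 1],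
    [9, 8, 2, 3, 4, 0, 1, 2, 3, 8, 9, 7, 6, 4, 5, 2, 3, 4, 1, 2, 3, 8, 0, 1, 2, 3, 4, 5, 6, 7, 8, 9, 5, 4, 2, 3, 8, 6, 4, 5, 2, 3, 4, 0, 1, 2, 3, 8, 9, 6, 5, 2, 3, 4, 1, 2, 3, 8, 0, 1, 2, 3, 4, 5, 6, 0, 1, 2, 3, 8, 4, 5, 3, 4, 2, 3, 8, 9, 8, 2, 3, 4, 1, 2, 3, 8, 0, 1, 2, 3, 4, 5, 3, 4, 2, 3, 8, 9, 4, 3, 8, 2, 3, 4, 1, 2, 3, 8, 0, 1, 2, 3, 4, 9, 3, 8, 0, 1, 2, 3, 0, 1, 2, 0],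
    [3, 8, 9, 7, 6, 5, 4, 3, 8, 5, 2, 3, 4, 1, 2, 3, 8, 9, 8, 5, 2, 3, 4, 1, 2, 3, 8, 0, 1, 2, 3, 4, 5, 6, 7, 5, 4, 2, 3, 8, 6, 4, 5, 2, 3, 4, 1, 2, 3, 8, 9, 6, 4, 5, 2, 3, 4, 1, 2, 3, 8, 0, 1, 2, 3, 4, 5, 6, 3, 8, 4, 5, 3, 4, 2, 3, 8, 1, 2, 3, 4, 5, 8, 2, 3, 4, 0, 1, 2, 3, 8, 9, 8, 3, 4, 2, 3, 8, 1, 2, 3, 4, 8, 3, 9, 1],
    [9, 4, 3, 8, 5, 6, 4, 5, 2, 3, 4, 1, 2, 3, 8, 9, 5, 2, 3, 4, 1, 2, 3, 8, 0, 1, 2, 3, 4, 5, 6, 7, 8, 9, 4, 1, 2, 3, 8, 6, 4, 5, 2, 3, 4, 1, 2, 3, 8, 9, 4, 5, 2, 3, 4, 1, 2, 3, 8, 0, 1, 2, 3, 4, 5, 6, 8, 9, 4, 3, 8, 2, 3, 4, 0, 1, 2, 3, 8, 9, 3, 4, 5, 2, 3, 4, 1, 2, 3, 8, 0, 1, 2, 3, 4, 5, 3, 8, 9, 1, 2, 3, 8, 0, 1, 2, 3, 4, 0,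 1, 2, 3, 1, 2, 9, 0],
    [5, 6, 4, 5, 1, 2, 3, 4, 0, 1, 2, 3, 8, 9, 6, 5, 2, 3, 4, 1, 2, 3, 8, 0, 1, 2, 3, 4, 5, 6, 7, 3, 8, 9, 1, 2, 3, 8, 5, 6, 4, 5, 3, 4, 2, 3, 8, 9, 8, 6, 5, 2, 3, 4, 1, 2, 3, 8, 0, 1, 2, 3, 4, 5, 6, 4, 3, 8, 9, 2, 3, 8, 4, 5, 2, 3, 4, 1, 2, 3, 8, 9, 4, 5, 2, 3, 4, 1, 2, 3, 8, 0, 1, 2, 3, 4, 5, 3, 8, 9, 4, 3, 8, 2, 3, 4, 1, 2, 3, 8, 0, 1, 2, 3, 4, 8, 3, 9, 8, 1, 2]]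

/-- The points fixed by the elementary abelian subgroup. -/
def ins : List ℕ := [79, 2644, 785, 28998, 2676, 4651, 18533, 22604, 5995, 4385, 14602, 8401, 6862, 23052, 15384, 2160, 2339, 29079, 23715, 17101, 5972, 20996, 11666]

/-- The closure. -/
def clo : Edges := [[(0, 1), (0, 0), (124, 6), (283, 8), (1224, 11), (1277, 13), (1794, 2), (1811, 18), (283, 3), (1997, 23), (271, 25), (950, 4), (364, 30), (346, 5), (1911, 35), (933, 37), (1224, 28), (1911, 41), (722, 7), (1675, 46), (194, 36), (393, 50), (411, 52), (1300, 9), (1441, 32), (1649, 10), (600, 59), (83, 60), (950, 16), (889, 63), (979, 12), (1683, 68), (1441, 24), (1211, 72), (0, 74), (688,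 14), (164, 20), (1634, 15), (227, 81), (1815, 82), (637, 84), (688, 17), (1277, 88), (1040, 89), (931, 76), (1569, 78), (1675, 19), (87, 86), (821, 70), (1817, 97), (1783, 21), (1794, 99), (411, 22), (1224, 101), (853, 66), (2024, 98), (1362, 67), (950, 79), (1484, 96), (1951, 26), (650, 27), (1211, 85), (575, 104), (416, 29), (844, 108), (950, 109), (490, 54), (2027, 56), (491, 31), (132, 106), (394, 48), (380, 117), (380, 33), (950, 119), (0, 34), (124, 121), (1636, 44), (906, 118), (1607, 45), (1224, 57), (600, 116), (1314, 38), (720, 39), (1695, 105), (539, 40), (380, 61), (648, 47), (1854, 125), (346, 42), (1142, 43), (1484, 110), (950, 123),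 (1204, 112), (933, 115), (380, 124), (1224, 113), (13, 58), (734, 49), (144, 55), (124, 51), (1224, 120), (950, 53), (1342, 122), (380, 111), (575, 62), (481, 83), (130, 69), (860, 127), (844, 64), (1224, 65), (13, 90), (1211, 103), (1204, 92), (950, 95), (1183, 126), (1634, 93), (1951, 80), (1211, 71), (1002, 77), (1224, 73), (950, 100), (1794, 75), (1921, 102), (1224, 91), (1211, 94), (1886, 87), (318, 114), (1060, 107)],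
    [(0, 2), (961, 4), (1779, 0), (727, 9), (1330, 1), (583, 14), (506, 16), (1070, 19), (372, 21), (855, 3), (1898, 26), (1098, 28), (228, 31), (1585, 33), (1204, 5), (1491, 38), (571, 6), (0, 42), (1117, 44), (282, 7), (1962, 48), (1927, 8), (29, 53), (1585, 55), (372, 57), (356, 58), (984, 10), (1711, 61), (1549, 11), (256, 64), (1319, 66), (228, 12), (1763, 70), (324, 13), (0, 75), (1914, 77), (506, 79), (990, 80), (1493, 15), (687, 83), (324, 85), (1914, 87), (1779, 17), (1501, 90), (233, 18), (717, 93), (1698, 71), (1558, 96), (664, 20), (1247, 68), (412, 98), (506, 100), (767, 78), (1193, 22), (1314, 97), (324, 23), (808, 74), (1927, 24), (356,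 25), (664, 86), (1314, 94), (539, 27), (1454, 105), (1585, 107), (1651, 29), (602, 110), (1313, 30), (1098, 113), (493, 49), (357, 116), (1763, 32), (1698, 46), (1585, 118), (254, 120), (1948, 56), (1779, 34), (1585, 117), (1339, 35), (184, 52), (571, 36), (1900, 37), (1336, 106), (1651, 114), (1563, 39), (415, 124), (1585, 40), (1962, 59), (1339, 41), (1585, 111), (1962, 122), (361, 43), (373, 108), (1909, 119), (266, 45), (1314, 60), (571, 121), (1558, 47), (1314, 54), (1320, 50), (583, 112), (571, 51), (254, 115), (1088, 109), (1585, 125), (1698, 126), (154, 62), (1919, 81), (324, 63), (1926, 91), (691, 102), (1774, 65), (324, 88), (1204, 99),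 (1549, 67), (256, 82), (697, 101), (357, 69), (324, 76), (324, 72), (390, 92), (697, 73), (506, 95), (664, 89), (1646, 127), (1325, 84), (324, 103), (1698, 104), (858, 123)],
    [(0, 3), (1499, 5), (230, 7), (1088, 10), (1452, 12), (362, 15), (939, 17), (503, 20), (1228, 22), (307, 24), (1494, 27), (1313, 29), (1936, 32), (938, 34), (815, 36), (703, 39), (458, 40), (815, 43), (1894, 45), (1942, 47), (1726, 49), (827, 51), (983, 54), (1498, 56), (1533, 33), (741, 44), (1083, 35), (367, 0), (973, 62), (1415, 65), (1109, 67), (815, 69), (987, 71), (1093, 73), (1763, 76), (886, 78), (868, 21), (189, 66), (1479, 23), (1074, 1), (795, 86), (393, 75), (691,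 25), (1430, 91), (134, 92), (1654, 94), (250, 95), (1708, 87), (573, 88), (646, 2), (1650, 80), (939, 14), (599, 82), (280, 72), (1067, 102), (250, 16), (2042, 103), (911, 84), (804, 63), (1864, 83), (1067, 70), (1093, 101), (12, 106), (391, 53), (367, 37), (1533, 111), (629, 112), (1313, 114), (204, 115), (740, 107), (1579, 108), (132, 4), (1823, 58), (405, 9), (1332, 60), (836, 50), (367, 122), (1144, 28), (132, 123), (64, 104), (1083, 41), (1002, 61), (367, 48), (827, 121), (1179, 113), (391, 109), (72, 55), (204, 120), (938, 52), (1308, 124), (329, 46), (962, 6), (1499, 42), (367, 125), (941, 116), (458, 118), (1870, 30), (1817, 59), (367, 110),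 (1106, 105), (939, 31), (1379, 117), (671, 8), (1668, 38), (1326, 93), (1347, 89), (1712, 77), (250, 100), (1367, 74), (960, 126), (1712, 68), (1093, 11), (599, 64), (686, 127), (162, 96), (1562, 98), (1294, 18), (943, 81), (1245, 90), (280, 85), (1913, 19), (722, 97), (1673, 13), (736, 26), (1093, 99), (250, 79), (132, 119), (577, 57)]]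

/-- The parents. -/
def par : List (ℕ × ℕ) := [(0, 0), (0, 0), (1, 0), (2, 0), (1, 1), (2, 1), (0, 2), (2, 2), (0, 3), (1, 3), (2, 3), (0, 4), (2, 4), (0, 5), (1, 5), (2, 5), (1, 6), (2, 6), (0, 7), (1, 7), (2, 7), (1, 8), (2, 8), (0, 9), (2, 9), (0, 10), (1, 10), (2, 10), (1, 11), (2, 11), (0, 12), (1, 12), (2, 12), (1, 13), (2, 13), (0, 14), (2, 14), (0, 15), (1, 15), (2, 15), (2, 16), (0, 17), (1, 17), (2, 17), (1, 18), (2, 18), (0, 19), (2, 19), (1, 20), (2, 20), (0, 21), (2, 21), (0, 22), (1, 22), (2, 22), (1, 23), (2, 23), (1, 24), (1, 25), (0, 26), (0, 27), (1, 27), (2, 28), (0, 29), (1, 29), (2, 29), (1, 30), (2, 30), (0, 31), (2, 31), (1,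 32), (2, 32), (0, 33), (2, 33), (0, 34), (1, 34), (2, 34), (1, 35), (2, 35), (1, 36), (1, 37), (0, 38), (0, 39), (1, 39), (0, 40), (1, 40), (2, 40), (1, 41), (0, 42), (0, 43), (1, 43), (2, 43), (2, 44), (1, 45), (2, 45), (2, 46), (1, 47), (0, 49), (1, 50), (0, 51), (1, 51), (0, 53), (2, 54), (2, 56), (0, 62), (1, 62), (2, 62), (1, 63), (0, 64), (0, 65), (1, 65), (2, 65), (2, 66), (1, 67), (2, 67), (2, 68), (1, 69), (0, 71), (1, 72), (0, 73), (1, 73), (0, 75), (2, 76), (2, 78), (1, 84), (0, 87), (1, 104), (0, 107)]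

/-- The actions of the generators. -/
def gM : List (List ℕ) := [[1478, 4, 2, 8, 1896, 64, 32, 128, 953, 223, 798],
    [1, 4, 2, 1210, 1763, 1877, 64, 256, 128, 512, 1024],
    [1478, 1024, 756, 64, 16, 2, 953, 223, 798, 256, 1677]]

/-- Conjugators for indices outside both subgroups. -/
def wj : List ℕ := [0, 7, 0, 0, 0, 0, 0, 0, 0, 0, 0, 0, 0, 0, 0, 0, 7, 0, 0, 0, 0, 0, 0, 0, 0, 0, 0, 0, 0, 0, 0, 0, 0, 0, 0, 0, 0, 0, 0, 0, 0, 0, 0, 0, 0, 0, 0, 0, 0, 0, 0, 0, 0, 0, 0, 0, 0, 0, 0, 0, 0, 0, 0, 0, 0, 0, 0, 0, 0, 7, 7, 0, 0, 0, 0, 0, 0, 0, 0, 0, 0, 0, 0, 0, 0, 0, 7, 0, 0, 0, 0, 0, 7, 0, 0, 0, 0, 0, 0, 0, 7, 0, 7, 0, 0, 0, 0, 0, 0, 0, 0, 0, 0, 0, 0,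 0, 0, 0, 0, 0, 0, 0, 0, 0, 0, 0, 0, 0]

/-- An elementary abelian subgroup of the quotient. -/
def sub1 : Sub where
  I := [0, 10, 31, 34, 37, 107, 122, 112, 125, 55, 48, 104, 40, 52, 46, 118]
  gs := [10, 31, 34, 37]
  C := [[(0, 1), (1342, 0), (1994, 5), (0, 6), (394, 7), (223, 2), (1342, 3), (1204, 4), (820, 11), (702, 12), (394, 13), (1546, 8), (1920, 9), (1204, 10), (702, 15), (1920, 14)],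
    [(0, 2), (1003, 5), (752, 0), (1749, 8), (1887, 9), (324, 1), (1003, 11), (609, 12), (1146, 3), (1520, 4), (1887, 14), (324, 6), (206, 7), (609, 15), (1520, 10), (206, 13)],
    [(0, 3), (1342, 6), (619, 8), (0, 0), (394, 10), (1546, 11), (1342, 1), (1204, 13), (1505, 2), (702, 14), (394, 4), (1546, 5), (1920, 15), (1204, 7), (702, 9), (1920, 12)],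
    [(0, 4), (0, 7), (1419, 9), (0, 10), (0, 0), (1921, 12), (0, 13), (0, 1), (1921, 14), (340, 2), (0, 3), (1921, 15), (1921, 5), (0, 6), (1921, 8), (1921, 11)]]
  par := [(0, 0), (0, 0), (1, 0), (2, 0), (3, 0), (1, 1), (2, 1), (3, 1), (2, 2), (3, 2), (3, 3), (2, 5), (3, 5), (3, 6), (3, 8), (3, 11)]
  M := [[1, 2, 4, 8, 16, 32, 64, 128, 256, 512, 1024],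
    [1, 1677, 128, 953, 16, 1024, 1877, 4, 1210, 798, 32],
    [1, 1024, 756, 512, 16, 1677, 1210, 223, 1877, 8, 2],
    [1, 8, 1210, 2, 16, 798, 756, 256, 128, 1024, 512],
    [1, 128, 1677, 256, 16, 756, 798, 2, 8, 1877, 223],
    [1, 32, 223, 798, 16, 2, 256, 756, 64, 953, 1677],
    [1, 953, 256, 1677, 16, 512, 223, 1210, 4, 32, 798],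
    [1, 4, 2, 1210, 16, 223, 512, 1677, 953, 64, 756],
    [1, 512, 64, 1024, 16, 953, 4, 1877, 223, 2, 8],
    [1, 223, 32, 1877, 16, 4, 953, 1024, 512, 256, 128],
    [1, 256, 953, 128, 16, 64, 32, 8, 2, 223, 1877],
    [1, 798, 1877, 32, 16, 8, 128, 64, 756, 1677, 953],
    [1, 756, 1024, 64, 16, 128, 8, 32, 798, 1210, 4],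
    [1, 1210, 8, 4, 16, 1877, 1024, 953, 1677, 756, 64],
    [1, 1877, 798, 223, 16, 1210, 1677, 512, 1024, 128, 256],
    [1, 64, 512, 756, 16, 256, 2, 798, 32, 4, 1210]]

/-- An elementary abelian subgroup of the quotient. -/
def sub2 : Sub where
  I := [0, 2, 11, 34, 52, 28, 75, 78, 67, 101, 112, 113, 115, 99, 73, 120]
  gs := [2, 11, 34, 52]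
  C := [[(0, 1), (1779, 0), (1098, 5), (0, 6), (767, 7), (1549, 2), (1779, 3), (184, 4), (1098, 11), (254, 12), (1204, 13), (1549, 8), (697, 9), (583, 10), (254, 15), (697, 14)],
    [(0, 2), (692, 5), (692, 0), (0, 8), (0, 9), (0, 1), (692, 11), (767, 12), (692, 3), (692, 4), (0, 14), (0, 6), (1611, 7), (692, 15), (692, 10), (0, 13)],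
    [(0, 3), (583, 6), (1205, 8), (0, 0), (1204, 10), (582, 11), (583, 1), (524, 13), (1205, 2), (1, 14), (1204, 4), (582, 5), (1778, 15), (184, 7), (1, 9), (1778, 12)],
    [(0, 4), (1611, 7), (821, 9), (0, 10), (0, 0), (1921, 12), (0, 13), (523, 1), (821, 14), (821, 2), (0, 3), (1921, 15), (1921, 5), (0, 6), (821, 8), (1921, 11)]]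
  par := [(0, 0), (0, 0), (1, 0), (2, 0), (3, 0), (1, 1), (2, 1), (3, 1), (2, 2), (3, 2), (3, 3), (2, 5), (3, 5), (3, 6), (3, 8), (3, 11)]
  M := [[1, 2, 4, 8, 16, 32, 64, 128, 256, 512, 1024],
    [1, 4, 2, 1210, 1763, 1877, 64, 256, 128, 512, 1024],
    [1, 4, 2, 1210, 1327, 32, 756, 953, 1677, 1024, 512],
    [1, 8, 1210, 2, 16, 798, 756, 256, 128, 1024, 512],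
    [1, 1210, 8, 4, 16, 1877, 1024, 953, 1677, 756, 64],
    [1, 2, 4, 8, 1896, 1877, 756, 1677, 953, 1024, 512],
    [1, 1210, 8, 4, 1763, 223, 756, 128, 256, 1024, 512],
    [1, 8, 1210, 2, 1763, 32, 1024, 1677, 953, 756, 64],
    [1, 1210, 8, 4, 1327, 798, 64, 1677, 953, 512, 1024],
    [1, 8, 1210, 2, 1327, 1877, 512, 128, 256, 64, 756],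
    [1, 4, 2, 1210, 16, 223, 512, 1677, 953, 64, 756],
    [1, 8, 1210, 2, 1896, 223, 64, 953, 1677, 512, 1024],
    [1, 1210, 8, 4, 1896, 32, 512, 256, 128, 64, 756],
    [1, 2, 4, 8, 1763, 798, 512, 953, 1677, 64, 756],
    [1, 2, 4, 8, 1327, 223, 1024, 256, 128, 756, 64],
    [1, 4, 2, 1210, 1896, 798, 1024, 128, 256, 756, 64]]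


end Cfsg.Agent.Fus.Fi23Sylow
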