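import Cfsg.Agent.Lib.Fus.Fi23Sylow.Data

/-! Independence of the basis. -/

set_option autoImplicit false
set_option maxRecDepth 100000
set_option maxHeartbeats 4000000

open Cfsg.Agent.Spor.Cos Cfsg.Agent.Spor.Cos.Triple Cfsg.Agent.Fus.Transp Cfsg.Agent.Fus.ElemW

namespace Cfsg.Agent.Fus.Fi23Sylow

open Cfsg.Agent.Spor.Cos.Fi23 (actA)

/-- A basis word is no product of the earlier ones. -/
noncomputable def chkIndep (i : ℕ) : Bool :=
  (List.range (2 ^ i)).all fun m => !(agree actA dps (eb.getD i []) (maskW eb i m))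

theorem indep_ok : ((List.range eb.length).all fun i => chkIndep i) = true := by decide +kernel

end Cfsg.Agent.Fus.Fi23Sylow
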