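import Cfsg.Agent.Lib.Fus.Fi23Sylow.Data

/-! Checks of the quotient. -/

set_option autoImplicit false
set_option maxRecDepth 100000
set_option maxHeartbeats 4000000

open Cfsg.Agent.Spor.Cos Cfsg.Agent.Spor.Cos.Triple Cfsg.Agent.Fus.Transp Cfsg.Agent.Fus.ElemW

namespace Cfsg.Agent.Fus.Fi23Sylow

open Cfsg.Agent.Spor.Cos.Fi23 (actA)

theorem out_ok : ((List.range reps.length).all fun i => chkOut actA ins reps sub1 sub2 wj i) = true := by
  decide +kernel

theorem pair_ok : chkPair actA ins reps sub1 sub2 = true := by decide +kernel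

end Cfsg.Agent.Fus.Fi23Sylow
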