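import Cfsg.Agent.Lib.Fus.Fi23Sylow.Data

/-! Checks of a subgroup of the quotient. -/

set_option autoImplicit false
set_option maxRecDepth 100000
set_option maxHeartbeats 4000000

open Cfsg.Agent.Spor.Cos Cfsg.Agent.Spor.Cos.Triple Cfsg.Agent.Fus.Transp Cfsg.Agent.Fus.ElemW

namespace Cfsg.Agent.Fus.Fi23Sylow

open Cfsg.Agent.Spor.Cos.Fi23 (actA)

theorem sub1_ok : chkSub actA dps eb reps sub1 = true := by decide +kernel

theorem edge_ok1 : ((List.range (pickR reps sub1.gs).length).all fun t => (List.range (pickR reps sub1.I).length).all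
    fun i => chkEdgeAt actA dps eb (pickR reps sub1.gs) (pickR reps sub1.I) sub1.C t i) = true := by decide +kernel

theorem parent_ok1 : ((List.range (pickR reps sub1.I).length).all fun j => Nat.beq j 0 || (fun p : ℕ × ℕ =>
    Nat.blt p.1 (pickR reps sub1.gs).length && Nat.blt p.2 j && Nat.beq (edgeAt sub1.C p.1 p.2).2 j)
      (sub1.par.getD j (0, 0))) = true := by decide +kernel

theorem act_ok1 : ((List.range (pickR reps sub1.gs).length).all fun t => chkAct actA dps eb
    ((pickR reps sub1.gs).getD t []) ((sub1.gs.map fun i => sub1.M.getD (sub1.I.idxOf i) []).getD t [])) = true := by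
  decide +kernel

end Cfsg.Agent.Fus.Fi23Sylow
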