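import Cfsg.Agent.Lib.Spor.Cos.Fi23.Order
import Cfsg.Agent.Lib.Fus.Fi23Sylow.Base
import Cfsg.Agent.Lib.Fus.Fi23Sylow.Indep
import Cfsg.Agent.Lib.Fus.Fi23Sylow.Closure
import Cfsg.Agent.Lib.Fus.Fi23Sylow.Quot
import Cfsg.Agent.Lib.Fus.Fi23Sylow.Sub1
import Cfsg.Agent.Lib.Fus.Fi23Sylow.Sub2

/-! A Sylow 2-subgroup of Fi23 has one normal elementary abelian subgroup of order 2048 and none larger. -/

set_option autoImplicit false
set_option maxRecDepth 100000
set_option maxHeartbeats 4000000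

open Cfsg Cfsg.Agent.Spor.Cos Cfsg.Agent.Spor.Cos.Triple Cfsg.Agent.Fus.Transp Cfsg.Agent.Fus.ElemW

namespace Cfsg.Agent.Fus.Fi23Sylow

open Cfsg.Agent.Spor.Cos.Fi23 (g actA piA homA)

theorem big : Big g actA piA dps ins eb gw reps clo par gM where
  hom := homA
  det := Cfsg.Agent.Spor.Cos.Fi23.det
  sq := Cfsg.Agent.Spor.Cos.Fi23.g_sq
  basis := by
    refine ⟨fun a ha => ?_, fun a ha b hb => ?_⟩
    · have h := eq_of_sameW (g := g) homA Cfsg.Agent.Spor.Cos.Fi23.det (List.all_eq_true.1 basis_sq a ha)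
      rw [ev_append] at h
      exact h
    · have h := eq_of_sameW (g := g) homA Cfsg.Agent.Spor.Cos.Fi23.det
        (List.all_eq_true.1 (List.all_eq_true.1 basis_comm a ha) b hb)
      rwa [ev_append, ev_append] at h
  indep := fun i hi m hm e => by
    have h := List.all_eq_true.1 (List.all_eq_true.1 indep_ok i (List.mem_range.2 hi)) m (List.mem_range.2 hm)
    have hl : Act.lettersOk actA.n eb = true := by decide +kernel
    rw [agree_of_eq (A := actA) homA (pts := dps) (by decide +kernel) ?_ ?_ e] at h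
    · exact Bool.noConfusion h
    · rw [List.getD_eq_getElem _ _ hi]
      exact Act.lt_of_lettersOk hl (List.getElem_mem hi)
    · intro s hs
      simp only [maskW, List.mem_flatten, List.mem_map] at hs
      obtain ⟨_, ⟨k, -, rfl⟩, hs⟩ := hs
      cases hb : Nat.beq ((m >>> k) % 2) 1
      · simp [hb] at hs
      · rw [hb, cond_true] at hs
        rcases Nat.lt_or_ge k eb.length with hk | hk
        · rw [List.getD_eq_getElem _ _ hk] at hs
          exact Act.lt_of_lettersOk hl (List.getElem_mem hk) s hs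
        · rw [List.getD_eq_default _ _ hk] at hs
          simp at hs
  ebl := by decide +kernel
  fixed := eb_fixed
  closed :=
    { letters := by decide +kernel
      len := by decide +kernel
      one := by decide +kernel
      edge := List.all_eq_true.2 fun t ht => by
        have ht' : t < 3 := List.mem_range.1 ht
        interval_cases t
        · exact edge0_ok
        · exact edge1_ok
        · exact edge2_ok
      parent := parent_ok
      act := act_ok }
  dist := dist_ok
  keep := keep_ok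

theorem card_two : (Nat.card Cfsg.Spor.Fi23).factorization 2 = 18 := by
  rw [Cfsg.Agent.Spor.Cos.Fi23.card_eq, show (4089470473293004800 : ℕ) = 2 ^ 18 * 15600091832325 by norm_num,
    Nat.factorization_mul (by norm_num) (by norm_num), Finsupp.add_apply,
    Nat.factorization_eq_zero_of_not_dvd (n := 15600091832325) (by norm_num),
    Nat.Prime.factorization_pow Nat.prime_two]
  simp

theorem normal_elem (T : Sylow 2 Cfsg.Spor.Fi23) :
    (∀ A : Subgroup Cfsg.Spor.Fi23, A ≤ T → (A.subgroupOf T).Normal → IsElementaryAbelian 2 A →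
      Nat.card A ≤ 2 ^ 11) ∧ ∃! A : Subgroup Cfsg.Spor.Fi23,
        A ≤ T ∧ (A.subgroupOf T).Normal ∧ IsElementaryAbelian 2 A ∧ Nat.card A = 2 ^ 11 := by
  have := Cfsg.Agent.Spor.Cos.Fi23.finite
  have : Fact (Nat.Prime 2) := ⟨Nat.prime_two⟩
  have hS : Nat.card (val g (eb ++ gw)) = 2 ^ (Nat.card Cfsg.Spor.Fi23).factorization 2 := by
    rw [big.card_eq, card_two, show eb.length = 11 by decide +kernel, show reps.length = 128 by decide +kernel]
    norm_num
  obtain ⟨c, hc⟩ := MulAction.exists_smul_eq Cfsg.Spor.Fi23 T (Sylow.ofCard (val g (eb ++ gw)) hS)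
  let f : Cfsg.Spor.Fi23 →* Cfsg.Spor.Fi23 := (MulAut.conj c).toMonoidHom
  have hf : Function.Injective f := (MulAut.conj c).injective
  have hT : (T : Subgroup Cfsg.Spor.Fi23).map f = val g (eb ++ gw) :=
    congrArg (fun S : Sylow 2 Cfsg.Spor.Fi23 => (S : Subgroup Cfsg.Spor.Fi23)) hc
  have hE2 : ∀ a ∈ val g eb, ∀ b ∈ val g eb, a * b = b * a ∧ a * a = 1 := fun a ha b hb => by
    obtain ⟨m, -, rfl⟩ := big.basis.mem_iff.1 ha
    obtain ⟨n, -, rfl⟩ := big.basis.mem_iff.1 hb
    rw [big.basis.mul_mask, big.basis.mul_mask, big.basis.mul_mask, show Nat.xor m n = Nat.xor n m from Nat.xor_comm m n,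
      show Nat.xor m m = 0 from Nat.xor_self m, ev_mask_zero]
    exact ⟨rfl, rfl⟩
  have hEcard : Nat.card (val g eb) = 2 ^ 11 := big.basis.card big.indep
  have key : ∀ A : Subgroup Cfsg.Spor.Fi23, A ≤ T → (A.subgroupOf T).Normal → IsElementaryAbelian 2 A →
      Nat.card A < 2 ^ 11 ∨ A.map f ≤ val g eb := by
    intro A hA hN hEA
    by_cases hne : A.map f ≤ val g eb
    · exact Or.inr hne
    left
    rw [← Subgroup.card_map_of_injective hf]
    have hle : A.map f ≤ val g (eb ++ gw) := hT ▸ Subgroup.map_mono hA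
    have hnorm : ∀ s ∈ val g (eb ++ gw), ∀ a ∈ A.map f, s * a * s⁻¹ ∈ A.map f := by
      intro s hs a ha
      rw [← hT] at hs
      obtain ⟨s', hs', rfl⟩ := hs
      obtain ⟨a', ha', rfl⟩ := ha
      exact ⟨s' * a' * s'⁻¹, hN.conj_mem ⟨a', hA ha'⟩ ha' ⟨s', hs'⟩, by simp only [map_mul, map_inv]⟩
    have hab : ∀ a ∈ A.map f, ∀ b ∈ A.map f, a * b = b * a := by
      rintro _ ⟨a, ha, rfl⟩ _ ⟨b, hb, rfl⟩
      have := hEA.1
      rw [← map_mul, ← map_mul, show a * b = b * a from
        congrArg Subtype.val (this.is_comm.comm (⟨a, ha⟩ : A) ⟨b, hb⟩)]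
    have hexp : ∀ a ∈ A.map f, a * a = 1 := by
      rintro _ ⟨a, ha, rfl⟩
      rw [← map_mul, ← pow_two, hEA.2 a ha, map_one]
    rcases big.idx_mem hle hnorm hab hexp out_ok pair_ok with h | h
    · exact big.card_lt sub1_ok ⟨by decide +kernel, by decide +kernel, by decide +kernel, edge_ok1, parent_ok1, act_ok1⟩
        hab hne h
    · exact big.card_lt sub2_ok ⟨by decide +kernel, by decide +kernel, by decide +kernel, edge_ok2, parent_ok2, act_ok2⟩
        hab hne h
  have hle2 : ∀ A : Subgroup Cfsg.Spor.Fi23, A.map f ≤ val g eb → Nat.card A ≤ 2 ^ 11 := fun A h => by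
    rw [← Subgroup.card_map_of_injective hf, ← hEcard]
    exact Nat.card_mono (Set.toFinite _) h
  refine ⟨fun A h1 h2 h3 => (key A h1 h2 h3).elim le_of_lt (hle2 A), (val g eb).comap f, ⟨?_, ?_, ?_, ?_⟩, ?_⟩
  · intro x hx
    have hsub : val g eb ≤ val g (eb ++ gw) :=
      Subgroup.closure_mono fun _ ⟨w, hw, e⟩ => ⟨w, List.mem_append_left _ hw, e⟩
    have : f x ∈ (T : Subgroup Cfsg.Spor.Fi23).map f := hT.symm ▸ hsub hx
    obtain ⟨y, hy, e⟩ := this
    exact hf e ▸ hy
  · refine ⟨fun x hx s => ?_⟩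
    show f ((s : Cfsg.Spor.Fi23) * x * (s : Cfsg.Spor.Fi23)⁻¹) ∈ val g eb
    rw [map_mul, map_mul, map_inv]
    exact big.closed.conj_mem homA big.det big.sq big.basis (hT ▸ ⟨(s : Cfsg.Spor.Fi23), s.2, rfl⟩) hx
  · refine ⟨⟨⟨fun x y => Subtype.ext (hf ?_)⟩⟩, fun a ha => hf ?_⟩
    · show f ((x : Cfsg.Spor.Fi23) * y) = f ((y : Cfsg.Spor.Fi23) * x)
      rw [map_mul, map_mul]
      exact (hE2 _ x.2 _ y.2).1
    · rw [map_pow, map_one, pow_two]
      exact (hE2 _ ha _ ha).2
  · rw [← hEcard, ← Subgroup.card_map_of_injective hf, Subgroup.map_comap_eq_self_of_surjective]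
    exact (MulAut.conj c).surjective
  · rintro A ⟨h1, h2, h3, h4⟩
    rcases key A h1 h2 h3 with h | h
    · omega
    · have : A.map f = val g eb := by
        refine SetLike.coe_injective (Set.eq_of_subset_of_ncard_le h ?_ (Set.toFinite _))
        rw [← Nat.card_coe_set_eq, ← Nat.card_coe_set_eq]
        show Nat.card (val g eb) ≤ Nat.card (A.map f)
        rw [hEcard, Subgroup.card_map_of_injective hf, h4]
      rw [← this, Subgroup.comap_map_eq_self_of_injective hf]

end Cfsg.Agent.Fus.Fi23Sylow
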